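import Mathlib

/-!
The field of a transitive cyclic automorphism group of an elementary abelian `2`-group, and
homogeneous biadditive maps on such a field.
-/

set_option autoImplicit false
set_option linter.style.haveILetI false

namespace CfsgLib.InvolutionFixed

theorem exists_field {C : Type*} [Group C] [Finite C] (hexp : ∀ x : C, x * x = 1) {n : ℕ} (hn : n ≠ 0)
    (hcard : Nat.card C = 2 ^ n) (r : MulAut C)
    (htr : ∀ x y : C, x ≠ 1 → y ≠ 1 → ∃ k : ℕ, (r ^ k) x = y) :
    ∃ (z : C → GaloisField 2 n) (l : GaloisField 2 n), Function.Bijective z ∧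
      (∀ x y, z (x * y) = z x + z y) ∧ (∀ x, z (r x) = l * z x) ∧ ∀ t, t ≠ 0 → ∃ k : ℕ, t = l ^ k := by
  classical
  have hcomm : ∀ a b : C, a * b = b * a := fun a b => by
    have hinv : ∀ c : C, c⁻¹ = c := fun c => inv_eq_of_mul_eq_one_right (hexp c)
    rw [← hinv (a * b), mul_inv_rev, hinv, hinv]
  letI : CommGroup C := { ‹Group C› with mul_comm := hcomm }
  haveI : Nontrivial C := Finite.one_lt_card_iff_nontrivial.1 (hcard ▸ Nat.one_lt_two_pow hn)
  obtain ⟨c₀, hc₀⟩ := exists_ne (1 : C)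
  let e : AddMonoid.End (Additive C) := MonoidHom.toAdditive r.toMonoidHom
  have heap : ∀ x : C, e (Additive.ofMul x) = Additive.ofMul (r x) := fun x => rfl
  have hepow : ∀ (k : ℕ) (x : C), (e ^ k) (Additive.ofMul x) = Additive.ofMul ((r ^ k) x) := by
    intro k
    induction k with
    | zero => intro x; rfl
    | succ k ih =>
      intro x
      rw [pow_succ', pow_succ']
      show e ((e ^ k) (Additive.ofMul x)) = _
      rw [ih, heap]; rfl
  have hscomm : ∀ x ∈ ({e} : Set (AddMonoid.End (Additive C))), ∀ y ∈ ({e} : Set (AddMonoid.End (Additive C))),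
      x * y = y * x := by
    rintro x rfl y rfl; rfl
  set S := Subring.closure ({e} : Set (AddMonoid.End (Additive C))) with hS
  letI : CommRing S := Subring.closureCommRingOfComm hscomm
  let E : S := ⟨e, Subring.subset_closure rfl⟩
  let ev : S →+ Additive C :=
    AddMonoidHom.mk' (fun s => (s : AddMonoid.End (Additive C)) (Additive.ofMul c₀)) fun s t => rfl
  have hne0 : (Additive.ofMul c₀ : Additive C) ≠ 0 := hc₀
  have hevE : ∀ k : ℕ, ev (E ^ k) = Additive.ofMul ((r ^ k) c₀) := fun k => by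
    show ((E ^ k : S) : AddMonoid.End (Additive C)) _ = _
    rw [SubmonoidClass.coe_pow, hepow]
  have hker : ∀ (s : S) (v : Additive C), v ≠ 0 → (s : AddMonoid.End (Additive C)) v = 0 → s = 0 := by
    intro s v hv hsv
    refine Subtype.ext (AddMonoidHom.ext fun w => ?_)
    show (s : AddMonoid.End (Additive C)) w = 0
    by_cases hw : w = 0
    · rw [hw, map_zero]
    obtain ⟨k, hk⟩ := htr v.toMul w.toMul hv hw
    have h1 : w = ((E ^ k : S) : AddMonoid.End (Additive C)) v := by
      rw [SubmonoidClass.coe_pow]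
      exact (((hepow k v.toMul).trans (congrArg Additive.ofMul hk))).symm
    rw [h1]
    show ((s * E ^ k : S) : AddMonoid.End (Additive C)) v = 0
    rw [mul_comm s]
    show ((E ^ k : S) : AddMonoid.End (Additive C)) ((s : AddMonoid.End (Additive C)) v) = 0
    rw [hsv, map_zero]
  have hevinj : Function.Injective ev := by
    rw [injective_iff_map_eq_zero]
    exact fun s hs => hker s _ hne0 hs
  have hevsurj : Function.Surjective ev := by
    intro w
    by_cases hw : w = 0
    · exact ⟨0, by rw [hw, map_zero]⟩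
    obtain ⟨k, hk⟩ := htr c₀ w.toMul hc₀ hw
    exact ⟨E ^ k, (hevE k).trans (congrArg Additive.ofMul hk)⟩
  haveI : Finite S := Finite.of_injective ev hevinj
  have hcardS : Nat.card S = 2 ^ n := by
    rw [Nat.card_congr (Equiv.ofBijective ev ⟨hevinj, hevsurj⟩), Nat.card_congr Additive.toMul, hcard]
  haveI : Nontrivial S := Finite.one_lt_card_iff_nontrivial.1 (hcardS ▸ Nat.one_lt_two_pow hn)
  haveI : NoZeroDivisors S := ⟨fun {a b} h => by
    by_cases hb : b = 0
    · exact Or.inr hb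
    refine Or.inl (hker a (ev b) (fun h0 => hb (hevinj (h0.trans (map_zero ev).symm))) ?_)
    show ((a * b : S) : AddMonoid.End (Additive C)) (Additive.ofMul c₀) = 0
    rw [h]; rfl⟩
  haveI : IsDomain S := NoZeroDivisors.to_isDomain S
  letI : Field S := (Finite.isField_of_domain S).toField
  letI : Fintype S := Fintype.ofFinite S
  letI : Fintype (GaloisField 2 n) := Fintype.ofFinite _
  let θ : GaloisField 2 n ≃+* S := FiniteField.ringEquivOfCardEq (by
    rw [← Nat.card_eq_fintype_card, ← Nat.card_eq_fintype_card, GaloisField.card 2 n hn, hcardS])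
  let v := Equiv.ofBijective ev ⟨hevinj, hevsurj⟩
  let z : C → GaloisField 2 n := fun x => θ.symm (v.symm (Additive.ofMul x))
  have hzinj : Function.Injective z := fun a b h =>
    Additive.ofMul.injective (v.symm.injective (θ.symm.injective h))
  have hzs : ∀ (s : S) (x : C), ev s = Additive.ofMul x → z x = θ.symm s := fun s x h => by
    show θ.symm (v.symm (Additive.ofMul x)) = _
    rw [← h]; exact congrArg θ.symm (v.symm_apply_apply s)
  refine ⟨z, θ.symm E, ⟨hzinj, fun t => ?_⟩, fun a b => ?_, fun x => ?_, fun t ht => ?_⟩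
  · exact ⟨(ev (θ t)).toMul, (hzs (θ t) _ rfl).trans (θ.symm_apply_apply t)⟩
  · obtain ⟨s, hs⟩ := hevsurj (Additive.ofMul a)
    obtain ⟨t, ht⟩ := hevsurj (Additive.ofMul b)
    rw [hzs s a hs, hzs t b ht, ← map_add]
    exact hzs _ _ (by rw [map_add, hs, ht]; rfl)
  · obtain ⟨s, hs⟩ := hevsurj (Additive.ofMul x)
    rw [hzs s x hs, ← map_mul]
    refine hzs _ _ ?_
    show e (ev s) = _
    rw [hs, heap]
  · have hst : θ t ≠ 0 := (map_ne_zero θ).2 ht
    have hne : ev (θ t) ≠ 0 := fun h => hst (hevinj (h.trans (map_zero ev).symm))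
    obtain ⟨k, hk⟩ := htr c₀ (ev (θ t)).toMul hc₀ hne
    refine ⟨k, ?_⟩
    have h1 : θ t = E ^ k := hevinj (by rw [hevE, hk]; rfl)
    rw [← map_pow, ← h1, RingEquiv.symm_apply_apply]

variable {F : Type*} [Field F] [Finite F] [CharP F 2]

omit [Finite F] in
/-- An additive map `g` with `a ↦ a ^ 2 * g a⁻¹` additive is linear. -/
theorem linear_of_inversion (hsq : ∀ a : F, ∃ b, b ^ 2 = a) {g : F → F}
    (hg : ∀ a b, g (a + b) = g a + g b)
    (hh : ∀ a b : F, (a + b) ^ 2 * g (a + b)⁻¹ = a ^ 2 * g a⁻¹ + b ^ 2 * g b⁻¹) :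
    ∀ x, g x = x * g 1 := by
  have e2 : (2 : F) = 0 := CharTwo.two_eq_zero
  let h : F → F := fun a => a ^ 2 * g a⁻¹ + a * g 1
  have hhadd : ∀ a b, h (a + b) = h a + h b := fun a b => by
    simp only [h, hh]; ring
  have hg' : ∀ a b, (g (a + b) + (a + b) * g 1) = (g a + a * g 1) + (g b + b * g 1) := fun a b => by
    rw [hg]; ring
  have h1 : h 1 = 0 := by simp [h, CharTwo.add_self_eq_zero]
  have h0 : ∀ a : F, a ≠ 0 → g a⁻¹ + a⁻¹ * g 1 = h a / a ^ 2 := fun a ha => by
    simp only [h]; field_simp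
  have hzero : ∀ a : F, h (a ^ 2) = 0 := fun a => by
    rcases eq_or_ne a 0 with rfl | ha
    · simp [h]
    rcases eq_or_ne a 1 with rfl | ha1
    · simpa using h1
    have hb : a + 1 ≠ 0 := fun e => ha1 (CharTwo.add_eq_zero.1 e)
    have hc : a ^ 2 + a ≠ 0 := by rw [sq, ← mul_add_one]; exact mul_ne_zero ha hb
    have hsum : a⁻¹ + (a + 1)⁻¹ = (a ^ 2 + a)⁻¹ := by
      field_simp
      linear_combination a * e2
    have h2 := hg' a⁻¹ (a + 1)⁻¹
    rw [hsum, h0 _ hc, h0 _ ha, h0 _ hb] at h2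
    rw [hhadd (a ^ 2) a, hhadd a 1, h1, add_zero] at h2
    field_simp at h2
    linear_combination h2 + h a * (a ^ 2 + a) * e2
  intro x
  by_cases hx : x = 0
  · subst hx
    have := hg 0 0
    rw [add_zero] at this
    rw [zero_mul]
    linear_combination -this
  obtain ⟨b, hb⟩ := hsq x⁻¹
  have h3 := h0 x⁻¹ (inv_ne_zero hx)
  rw [inv_inv, ← hb, hzero, zero_div] at h3
  exact CharTwo.add_eq_zero.1 h3

theorem exists_sqrt_fun : ∃ s : F → F, ∀ a, s a ^ 2 = a := by
  haveI : Fact (Nat.Prime 2) := ⟨Nat.prime_two⟩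
  refine ⟨fun a => (frobeniusEquiv F 2).symm a, fun a => ?_⟩
  exact (frobenius_def (p := 2) ((frobeniusEquiv F 2).symm a)).symm.trans (frobenius_apply_frobeniusEquiv_symm F 2 a)

theorem biadd_homogeneous {B : F → F → F} (hl : ∀ a a' b, B (a + a') b = B a b + B a' b)
    (hr : ∀ a b b', B a (b + b') = B a b + B a b') (hh : ∀ t a b, t ≠ 0 → B (t * a) (t * b) = t * B a b) :
    ∀ a b : F, B (a ^ 2) (b ^ 2) = a * b * B 1 1 := by
  obtain ⟨s, hs⟩ := exists_sqrt_fun (F := F)
  have hadd : ∀ a b : F, (a + b) ^ 2 = a ^ 2 + b ^ 2 := CharTwo.add_sq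
  have hB0 : ∀ b, B 0 b = 0 := fun b => by
    have := hl 0 0 b
    rw [add_zero] at this
    linear_combination -this
  let g : F → F := fun x => B 1 (x ^ 2)
  have hkey : ∀ a b : F, a ≠ 0 → B (a ^ 2) (b ^ 2) = a ^ 2 * g (b / a) := fun a b ha => by
    have := hh (a ^ 2) 1 ((b / a) ^ 2) (pow_ne_zero 2 ha)
    rw [mul_one, div_pow, mul_div_cancel₀ _ (pow_ne_zero 2 ha)] at this
    rw [this]; simp only [g, div_pow]
  have hlin := linear_of_inversion (fun a => ⟨s a, hs a⟩) (g := g)
    (fun a b => by simp only [g, hadd, hr]) (fun a b => by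
      have hk : ∀ c : F, c ^ 2 * g c⁻¹ = B (c ^ 2) 1 := fun c => by
        rcases eq_or_ne c 0 with rfl | hc
        · simp [hB0]
        · have := hkey c 1 hc
          rw [one_pow, one_div] at this
          exact this.symm
      rw [hk, hk, hk, hadd, hl])
  intro a b
  rcases eq_or_ne a 0 with rfl | ha
  · simp [hB0]
  · rw [hkey a b ha, hlin]
    simp only [g, one_pow]
    field_simp

theorem biadd_alternating {B : F → F → F} (hl : ∀ a a' b, B (a + a') b = B a b + B a' b)
    (hr : ∀ a b b', B a (b + b') = B a b + B a b') (hh : ∀ t a b, t ≠ 0 → B (t * a) (t * b) = t * B a b)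
    (h0 : ∀ a, B a a = 0) : ∀ a b : F, B a b = 0 := by
  obtain ⟨s, hs⟩ := exists_sqrt_fun (F := F)
  intro a b
  rw [← hs a, ← hs b, biadd_homogeneous hl hr hh, h0, mul_zero]

omit [Finite F] [CharP F 2] in
theorem homogeneous {L : F → F} (hh : ∀ t a, t ≠ 0 → L (t * a) = t * L a) (h0 : L 0 = 0) :
    ∀ a, L a = a * L 1 := fun a => by
  rcases eq_or_ne a 0 with rfl | ha
  · rw [h0, zero_mul]
  · simpa using hh a 1 ha

omit [Finite F] [CharP F 2] in
theorem homogeneous_of_gen {L M : F → F} {l : F} (hgen : ∀ t, t ≠ 0 → ∃ k : ℕ, t = l ^ k)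
    (hl : ∀ a, L (l * a) = l * M a) (hLM : ∀ a, L a = M a) : ∀ t a, t ≠ 0 → L (t * a) = t * L a := by
  intro t a ht
  obtain ⟨k, rfl⟩ := hgen t ht
  induction k with
  | zero => simp
  | succ k ih =>
    rw [pow_succ', mul_assoc, hl, ← hLM]
    by_cases hk : l ^ k = 0
    · exact absurd (by rw [pow_succ', hk, mul_zero]) ht
    · rw [ih hk, mul_assoc]

end CfsgLib.InvolutionFixed
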