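import Mathlib
import Cfsg.Agent.Lib.PGroup.InvolutionFixed.Field

/-!
`2`-groups with an involutory automorphism whose fixed points form an elementary abelian group
permuted transitively by a commuting automorphism: the first two layers.
-/

set_option autoImplicit false
set_option linter.style.haveILetI false

namespace CfsgLib.InvolutionFixed

open Subgroup
open scoped commutatorElement

universe u

variable {Q : Type u} [Group Q] [Finite Q]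

/-- The standing hypotheses. -/
structure Hyp (α ρ : MulAut Q) (C : Subgroup Q) (n : ℕ) : Prop where
  p2 : IsPGroup 2 Q
  two : 2 ≤ n
  invol : ∀ x, α (α x) = x
  comm : ∀ x, α (ρ x) = ρ (α x)
  mem : ∀ x, x ∈ C ↔ α x = x
  exp : ∀ x ∈ C, x * x = 1
  card : Nat.card C = 2 ^ n
  tr : ∀ x y : Q, x ∈ C → y ∈ C → x ≠ 1 → y ≠ 1 → ∃ k : ℕ, (ρ ^ k) x = y

/-- The map `x ↦ x⁻¹ * α x`. -/
def δ (α : MulAut Q) (x : Q) : Q := x⁻¹ * α x

section Generic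

omit [Finite Q] in
theorem δ_mul (α : MulAut Q) (x y : Q) : δ α (x * y) = y⁻¹ * δ α x * y * δ α y := by
  simp only [δ, map_mul]; group

omit [Finite Q] in
theorem δ_one (α : MulAut Q) : δ α 1 = 1 := by simp [δ]

omit [Finite Q] in
theorem δ_comp {α ρ : MulAut Q} (h : ∀ x, α (ρ x) = ρ (α x)) (x : Q) : δ α (ρ x) = ρ (δ α x) := by
  simp only [δ, map_mul, map_inv, h]

omit [Finite Q] in
theorem inverted_δ {α : MulAut Q} (h : ∀ x, α (α x) = x) (x : Q) : α (δ α x) = (δ α x)⁻¹ := by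
  simp only [δ, map_mul, map_inv, h]; group

theorem exists_next (hQ : IsPGroup 2 Q) (α : MulAut Q) (hα : ∀ x, α (α x) = x) {H N : Subgroup Q}
    (hNH : N ≤ H) (hne : ¬ H ≤ N) (hH : ∀ x ∈ H, α x ∈ H) (hN : ∀ x ∈ N, α x ∈ N) :
    ∃ x ∈ H, x ∉ N ∧ δ α x ∈ N := by
  classical
  haveI : Fact (Nat.Prime 2) := ⟨Nat.prime_two⟩
  let N' := N.subgroupOf H
  haveI : Fintype (H ⧸ N') := Fintype.ofFinite _
  let f : H ⧸ N' → H ⧸ N' := Quotient.map' (fun x => ⟨α x.1, hH _ x.2⟩) fun a b h => by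
    rw [QuotientGroup.leftRel_apply] at h ⊢
    show (α a.1)⁻¹ * α b.1 ∈ N
    rw [← map_inv, ← map_mul]; exact hN _ h
  have hf : Function.Involutive f := fun c => by
    induction c using Quotient.inductionOn' with
    | h x => exact congrArg Quotient.mk'' (Subtype.ext (hα x.1))
  have hcard : 2 ∣ Fintype.card (H ⧸ N') := by
    rw [← Nat.card_eq_fintype_card]
    obtain ⟨k, hk⟩ := IsPGroup.iff_card.1 (hQ.to_subgroup H)
    have hd : N'.index ∣ 2 ^ k := hk ▸ Subgroup.index_dvd_card N'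
    obtain ⟨j, -, hj⟩ := (Nat.dvd_prime_pow Nat.prime_two).1 hd
    have hj0 : j ≠ 0 := fun h0 => hne (by
      rw [h0, pow_zero, Subgroup.index_eq_one] at hj
      intro x hx
      exact (show (⟨x, hx⟩ : H) ∈ N' from hj ▸ Subgroup.mem_top _))
    show 2 ∣ N'.index
    rw [hj]; exact dvd_pow_self 2 hj0
  have hpow : (hf.toPerm f) ^ 2 ^ 1 = 1 := by
    rw [pow_one, sq]; exact Equiv.ext fun c => hf c
  obtain ⟨b, hb, hb1⟩ := Equiv.Perm.exists_fixed_point_of_prime' hcard hpow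
    (a := ((1 : H) : H ⧸ N')) (congrArg Quotient.mk'' (Subtype.ext (map_one α)))
  induction b using Quotient.inductionOn' with
  | h x =>
    refine ⟨x.1, x.2, fun hx => hb1 (QuotientGroup.eq.2 ?_), ?_⟩
    · show x.1⁻¹ * 1 ∈ N
      rw [mul_one]; exact N.inv_mem hx
    · have h := QuotientGroup.eq.1 (show ((⟨α x.1, hH _ x.2⟩ : H) : H ⧸ N') = (x : H ⧸ N') from hb)
      have h' : (α x.1)⁻¹ * x.1 ∈ N := h
      have := N.inv_mem h'
      rwa [mul_inv_rev, inv_inv] at this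

variable {F : Type*} [Field F] {ρ : MulAut Q} {l : F} (hgen : ∀ t : F, t ≠ 0 → ∃ k : ℕ, t = l ^ k)

omit [Finite Q] in
theorem iter_mem {H : Subgroup Q} (hH : ∀ x ∈ H, ρ x ∈ H) (k : ℕ) {x : Q} (hx : x ∈ H) : (ρ ^ k) x ∈ H := by
  induction k with
  | zero => exact hx
  | succ k ih => rw [pow_succ']; exact hH _ ih

omit [Finite Q] in
theorem iter_val {H : Subgroup Q} (hH : ∀ x ∈ H, ρ x ∈ H) (f : Q → F) (hf : ∀ x ∈ H, f (ρ x) = l * f x)
    (k : ℕ) {x : Q} (hx : x ∈ H) : f ((ρ ^ k) x) = l ^ k * f x := by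
  induction k with
  | zero => simp
  | succ k ih =>
    rw [pow_succ', MulAut.mul_apply, hf _ (iter_mem hH k hx), ih, pow_succ', mul_assoc]

include hgen

omit [Finite Q] in
theorem orbit_surj {H : Subgroup Q} (hH : ∀ x ∈ H, ρ x ∈ H) (f : Q → F) (hf : ∀ x ∈ H, f (ρ x) = l * f x)
    (hf1 : f 1 = 0) {x₀ : Q} (hx₀ : x₀ ∈ H) (hne : f x₀ ≠ 0) (t : F) : ∃ x ∈ H, f x = t := by
  rcases eq_or_ne t 0 with rfl | ht
  · exact ⟨1, H.one_mem, hf1⟩
  obtain ⟨k, hk⟩ := hgen (t / f x₀) (div_ne_zero ht hne)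
  exact ⟨(ρ ^ k) x₀, iter_mem hH k hx₀, by rw [iter_val hH f hf k hx₀, ← hk, div_mul_cancel₀ _ hne]⟩

omit [Finite Q] in
/-- A function depending only on `f` and homogeneous is a multiple of `f`. -/
theorem exists_factor {H : Subgroup Q} (hH : ∀ x ∈ H, ρ x ∈ H) (f φ : Q → F)
    (hfρ : ∀ x ∈ H, f (ρ x) = l * f x) (hφρ : ∀ x ∈ H, φ (ρ x) = l * φ x)
    (hsurj : ∀ t, ∃ x ∈ H, f x = t) (hwd : ∀ x ∈ H, ∀ y ∈ H, f x = f y → φ x = φ y)
    (hf1 : f 1 = 0) (hφ1 : φ 1 = 0) : ∃ κ : F, ∀ x ∈ H, φ x = κ * f x := by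
  obtain ⟨x₁, hx₁, h1⟩ := hsurj 1
  refine ⟨φ x₁, fun x hx => ?_⟩
  rcases eq_or_ne (f x) 0 with h | h
  · rw [h, mul_zero, hwd x hx 1 H.one_mem (h.trans hf1.symm), hφ1]
  obtain ⟨k, hk⟩ := hgen _ h
  have h2 : f ((ρ ^ k) x₁) = f x := by rw [iter_val hH f hfρ k hx₁, h1, mul_one, hk]
  rw [← hwd _ (iter_mem hH k hx₁) x hx h2, iter_val hH φ hφρ k hx₁, ← hk, mul_comm]

variable [Finite F] [CharP F 2]

omit [Finite Q] in
/-- A biadditive equivariant pairing squares to a multiple of the product of the coordinates. -/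
theorem exists_pairing {H H' : Subgroup Q} (hH : ∀ x ∈ H, ρ x ∈ H) (hH' : ∀ x ∈ H', ρ x ∈ H')
    (f g : Q → F) (φ : Q → Q → F)
    (hfρ : ∀ x ∈ H, f (ρ x) = l * f x) (hgρ : ∀ x ∈ H', g (ρ x) = l * g x)
    (hfadd : ∀ x ∈ H, ∀ x' ∈ H, f (x * x') = f x + f x') (hgadd : ∀ y ∈ H', ∀ y' ∈ H', g (y * y') = g y + g y')
    (hfs : ∀ t, ∃ x ∈ H, f x = t) (hgs : ∀ t, ∃ y ∈ H', g y = t)
    (hl : ∀ x ∈ H, ∀ x' ∈ H, ∀ y ∈ H', φ (x * x') y = φ x y + φ x' y)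
    (hr : ∀ x ∈ H, ∀ y ∈ H', ∀ y' ∈ H', φ x (y * y') = φ x y + φ x y')
    (hkl : ∀ x ∈ H, ∀ y ∈ H', f x = 0 → φ x y = 0) (hkr : ∀ x ∈ H, ∀ y ∈ H', g y = 0 → φ x y = 0)
    (hφρ : ∀ x ∈ H, ∀ y ∈ H', φ (ρ x) (ρ y) = l * φ x y) :
    ∃ κ : F, ∀ x ∈ H, ∀ y ∈ H', φ x y ^ 2 = κ * f x * g y := by
  choose s hsH hs using hfs
  choose s' hsH' hs' using hgs
  have hwd : ∀ x ∈ H, ∀ y ∈ H', φ x y = φ (s (f x)) (s' (g y)) := by
    intro x hx y hy
    have hu : f ((s (f x))⁻¹ * x) = 0 := by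
      have h := hfadd (s (f x)) (hsH _) _ (H.mul_mem (H.inv_mem (hsH (f x))) hx)
      rw [mul_inv_cancel_left, hs] at h
      linear_combination -h
    have hv : g ((s' (g y))⁻¹ * y) = 0 := by
      have h := hgadd (s' (g y)) (hsH' _) _ (H'.mul_mem (H'.inv_mem (hsH' (g y))) hy)
      rw [mul_inv_cancel_left, hs'] at h
      linear_combination -h
    conv_lhs => rw [← mul_inv_cancel_left (s (f x)) x]
    rw [hl _ (hsH _) _ (H.mul_mem (H.inv_mem (hsH _)) hx) _ hy, hkl _ (H.mul_mem (H.inv_mem (hsH _)) hx) _ hy hu,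
      add_zero]
    conv_lhs => rw [← mul_inv_cancel_left (s' (g y)) y]
    rw [hr _ (hsH _) _ (hsH' _) _ (H'.mul_mem (H'.inv_mem (hsH' _)) hy),
      hkr _ (hsH _) _ (H'.mul_mem (H'.inv_mem (hsH' _)) hy) hv, add_zero]
  let B : F → F → F := fun a b => φ (s a) (s' b)
  obtain ⟨sq', hsq'⟩ := exists_sqrt_fun (F := F)
  have hB := biadd_homogeneous (B := B)
    (fun a a' b => by
      have h1 := hwd _ (H.mul_mem (hsH a) (hsH a')) _ (hsH' b)
      rw [hfadd _ (hsH a) _ (hsH a'), hs, hs, hs'] at h1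
      simp only [B]
      rw [← h1, hl _ (hsH a) _ (hsH a') _ (hsH' b)])
    (fun a b b' => by
      have h1 := hwd _ (hsH a) _ (H'.mul_mem (hsH' b) (hsH' b'))
      rw [hgadd _ (hsH' b) _ (hsH' b'), hs, hs', hs'] at h1
      simp only [B]
      rw [← h1, hr _ (hsH a) _ (hsH' b) _ (hsH' b')])
    (fun t a b ht => by
      obtain ⟨k, rfl⟩ := hgen t ht
      have hk : φ ((ρ ^ k) (s a)) ((ρ ^ k) (s' b)) = l ^ k * φ (s a) (s' b) := by
        clear ht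
        induction k with
        | zero => simp
        | succ k ih =>
          rw [pow_succ', MulAut.mul_apply, MulAut.mul_apply, hφρ _ (iter_mem hH k (hsH a)) _ (iter_mem hH' k (hsH' b)),
            ih, pow_succ', mul_assoc]
      have h1 := hwd _ (iter_mem hH k (hsH a)) _ (iter_mem hH' k (hsH' b))
      rw [iter_val hH f hfρ k (hsH a), iter_val hH' g hgρ k (hsH' b), hs, hs', hk] at h1
      exact h1.symm)
  refine ⟨B 1 1 ^ 2, fun x hx y hy => ?_⟩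
  rw [hwd x hx y hy, show φ (s (f x)) (s' (g y)) = B (f x) (g y) from rfl, ← hsq' (f x), ← hsq' (g y), hB]
  ring

omit [Finite Q] in
theorem alternating_eq_zero {H : Subgroup Q} (hH : ∀ x ∈ H, ρ x ∈ H) (f : Q → F) (φ : Q → Q → F)
    (hfρ : ∀ x ∈ H, f (ρ x) = l * f x) (hfadd : ∀ x ∈ H, ∀ x' ∈ H, f (x * x') = f x + f x')
    (hfs : ∀ t, ∃ x ∈ H, f x = t)
    (hl : ∀ x ∈ H, ∀ x' ∈ H, ∀ y ∈ H, φ (x * x') y = φ x y + φ x' y)
    (hr : ∀ x ∈ H, ∀ y ∈ H, ∀ y' ∈ H, φ x (y * y') = φ x y + φ x y')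
    (hk : ∀ x ∈ H, ∀ y ∈ H, f x = 0 → φ x y = 0) (hdiag : ∀ x ∈ H, φ x x = 0)
    (hφρ : ∀ x ∈ H, ∀ y ∈ H, φ (ρ x) (ρ y) = l * φ x y) : ∀ x ∈ H, ∀ y ∈ H, φ x y = 0 := by
  have hsymm : ∀ x ∈ H, ∀ y ∈ H, φ x y = φ y x := fun x hx y hy => by
    have h := hdiag _ (H.mul_mem hx hy)
    rw [hl x hx y hy _ (H.mul_mem hx hy), hr x hx x hx y hy, hr y hy x hx y hy, hdiag x hx, hdiag y hy, zero_add,
      add_zero] at h
    exact CharTwo.add_eq_zero.1 h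
  obtain ⟨κ, hκ⟩ := exists_pairing hgen hH hH f f φ hfρ hfρ hfadd hfadd hfs hfs hl hr hk
    (fun x hx y hy h => (hsymm x hx y hy).trans (hk y hy x hx h)) hφρ
  obtain ⟨x₁, hx₁, h1⟩ := hfs 1
  have hκ0 : κ = 0 := by
    have := hκ x₁ hx₁ x₁ hx₁
    rw [hdiag x₁ hx₁, h1] at this
    simpa using this.symm
  exact fun x hx y hy => eq_zero_of_pow_eq_zero (n := 2) (by rw [hκ x hx y hy, hκ0]; ring)

end Generic

/-- Coordinates on the fixed points. -/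
structure Coord (α ρ : MulAut Q) (C : Subgroup Q) (n : ℕ) where
  hyp : Hyp α ρ C n
  ζ : Q → GaloisField 2 n
  l : GaloisField 2 n
  gen : ∀ t, t ≠ 0 → ∃ k : ℕ, t = l ^ k
  ζ_mul : ∀ x ∈ C, ∀ y ∈ C, ζ (x * y) = ζ x + ζ y
  ζ_eq_zero : ∀ x ∈ C, ζ x = 0 → x = 1
  ζ_surj : ∀ t, ∃ x ∈ C, ζ x = t
  ζ_ρ : ∀ x ∈ C, ζ (ρ x) = l * ζ x

variable {α ρ : MulAut Q} {C : Subgroup Q} {n : ℕ}

theorem Hyp.ρ_mem (h : Hyp α ρ C n) : ∀ x ∈ C, ρ x ∈ C := fun x hx => by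
  rw [h.mem] at hx ⊢; rw [h.comm, hx]

theorem Hyp.central (h : Hyp α ρ C n) : ∀ c ∈ C, ∀ g : Q, g * c = c * g := by
  haveI : Fact (Nat.Prime 2) := ⟨Nat.prime_two⟩
  haveI : Nontrivial C := Finite.one_lt_card_iff_nontrivial.1 (h.card ▸ Nat.one_lt_two_pow (by have := h.two; omega))
  obtain ⟨c₁, hc₁⟩ := exists_ne (1 : C)
  haveI : Nontrivial Q := ⟨⟨c₁.1, 1, fun e => hc₁ (Subtype.ext e)⟩⟩
  have hZ : ¬ center Q ≤ ⊥ := fun hle =>
    (Subgroup.nontrivial_iff_ne_bot _).1 h.p2.center_nontrivial (le_bot_iff.1 hle)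
  obtain ⟨x, hxZ, hx1, hxd⟩ := exists_next h.p2 α h.invol bot_le hZ
    (fun x hx => mem_center_iff.2 fun g => by
      obtain ⟨g, rfl⟩ := α.surjective g
      rw [← map_mul, ← map_mul, mem_center_iff.1 hx g])
    (fun x hx => by rw [mem_bot.1 hx, map_one]; exact one_mem _)
  have hxC : x ∈ C := (h.mem x).2 (inv_mul_eq_one.1 (mem_bot.1 hxd)).symm
  intro c hc g
  rcases eq_or_ne c 1 with rfl | hc1
  · simp
  obtain ⟨k, hk⟩ := h.tr x c hxC hc (fun e => hx1 (mem_bot.2 e)) hc1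
  refine mem_center_iff.1 (hk ▸ ?_) g
  refine iter_mem (fun z hz => mem_center_iff.2 fun g => ?_) k hxZ
  obtain ⟨g, rfl⟩ := ρ.surjective g
  rw [← map_mul, ← map_mul, mem_center_iff.1 hz g]

theorem Hyp.exists_coord (h : Hyp α ρ C n) : Nonempty (Coord α ρ C n) := by
  classical
  have hsymm : ∀ x ∈ C, ρ.symm x ∈ C := fun x hx => by
    rw [h.mem] at hx ⊢
    apply ρ.injective
    rw [← h.comm, MulEquiv.apply_symm_apply, hx]
  let r : MulAut C :=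
    { toFun := fun x => ⟨ρ x.1, h.ρ_mem _ x.2⟩
      invFun := fun x => ⟨ρ.symm x.1, hsymm _ x.2⟩
      left_inv := fun x => Subtype.ext (ρ.symm_apply_apply x.1)
      right_inv := fun x => Subtype.ext (ρ.apply_symm_apply x.1)
      map_mul' := fun x y => Subtype.ext (map_mul ρ x.1 y.1) }
  have hr : ∀ (k : ℕ) (x : C), ((r ^ k) x).1 = (ρ ^ k) x.1 := fun k => by
    induction k with
    | zero => intro x; rfl
    | succ k ih => intro x; rw [pow_succ', pow_succ']; show ρ ((r ^ k) x).1 = _; rw [ih]; rfl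
  obtain ⟨z, l, hbij, hmul, hzr, hgen⟩ := exists_field (C := C) (fun x => Subtype.ext (h.exp _ x.2))
    (n := n) (by have := h.two; omega) h.card r (fun x y hx hy => by
      obtain ⟨k, hk⟩ := h.tr x.1 y.1 x.2 y.2 (fun e => hx (Subtype.ext e)) (fun e => hy (Subtype.ext e))
      exact ⟨k, Subtype.ext ((hr k x).trans hk)⟩)
  have hz1 : z 1 = 0 := by
    have := hmul 1 1
    rw [one_mul] at this
    linear_combination -this
  refine ⟨{
    hyp := h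
    ζ := fun x => if hx : x ∈ C then z ⟨x, hx⟩ else 0
    l := l
    gen := hgen
    ζ_mul := fun x hx y hy => by
      simp only [dif_pos hx, dif_pos hy, dif_pos (C.mul_mem hx hy)]
      exact hmul ⟨x, hx⟩ ⟨y, hy⟩
    ζ_eq_zero := fun x hx e => by
      simp only [dif_pos hx] at e
      exact congrArg Subtype.val (hbij.1 (e.trans hz1.symm))
    ζ_surj := fun t => by
      obtain ⟨x, hx⟩ := hbij.2 t
      exact ⟨x.1, x.2, by simpa using hx⟩
    ζ_ρ := fun x hx => by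
      simp only [dif_pos hx, dif_pos (h.ρ_mem x hx)]
      exact hzr ⟨x, hx⟩ }⟩

namespace Coord

variable (c : Coord α ρ C n)

theorem ζ_one : c.ζ 1 = 0 := by
  have := c.ζ_mul 1 (one_mem _) 1 (one_mem _)
  rw [one_mul] at this
  linear_combination -this

include c in
theorem C_normal : C.Normal := ⟨fun x hx g => by rw [c.hyp.central x hx g, mul_inv_cancel_right]; exact hx⟩

theorem ζ_inv {x : Q} (hx : x ∈ C) : c.ζ x⁻¹ = c.ζ x := by
  rw [inv_eq_of_mul_eq_one_right (c.hyp.exp x hx)]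

/-- The first layer. -/
def D : Subgroup Q where
  carrier := {x | δ α x ∈ C}
  one_mem' := by show δ α 1 ∈ C; rw [δ_one]; exact one_mem _
  mul_mem' := fun {x y} (hx : δ α x ∈ C) (hy : δ α y ∈ C) => by
    show δ α (x * y) ∈ C
    rw [δ_mul, c.hyp.central _ hx y⁻¹, mul_assoc (δ α x), inv_mul_cancel, mul_one]
    exact C.mul_mem hx hy
  inv_mem' := fun {x} (hx : δ α x ∈ C) => by
    show δ α x⁻¹ ∈ C
    have e : δ α x⁻¹ = x * (δ α x)⁻¹ * x⁻¹ := by simp only [δ, map_inv]; group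
    rw [e, c.hyp.central _ (C.inv_mem hx) x, mul_inv_cancel_right]
    exact C.inv_mem hx

theorem mem_D {x : Q} : x ∈ c.D ↔ δ α x ∈ C := Iff.rfl

theorem C_le_D : C ≤ c.D := fun x hx => by
  rw [mem_D, δ, (c.hyp.mem x).1 hx, inv_mul_cancel]; exact one_mem _

/-- The coordinate on the first layer. -/
noncomputable def A (x : Q) : GaloisField 2 n := c.ζ (δ α x)

theorem A_mul {x y : Q} (hx : x ∈ c.D) (hy : y ∈ c.D) : c.A (x * y) = c.A x + c.A y := by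
  simp only [A]
  rw [δ_mul, c.hyp.central _ hx y⁻¹, mul_assoc (δ α x), inv_mul_cancel, mul_one]
  exact c.ζ_mul _ hx _ hy

theorem A_of_C {x : Q} (hx : x ∈ C) : c.A x = 0 := by
  rw [A, δ, (c.hyp.mem x).1 hx, inv_mul_cancel, c.ζ_one]

theorem A_one : c.A 1 = 0 := c.A_of_C (one_mem _)

theorem A_mul_C {x z : Q} (hx : x ∈ c.D) (hz : z ∈ C) : c.A (x * z) = c.A x := by
  rw [c.A_mul hx (c.C_le_D hz), c.A_of_C hz, add_zero]

theorem A_inv {x : Q} (hx : x ∈ c.D) : c.A x⁻¹ = c.A x := by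
  have h := c.A_mul (c.D.inv_mem hx) hx
  rw [inv_mul_cancel, c.A_one] at h
  exact CharTwo.add_eq_zero.1 h.symm

theorem mem_C_of_A {x : Q} (hx : x ∈ c.D) (h : c.A x = 0) : x ∈ C :=
  (c.hyp.mem x).2 (inv_mul_eq_one.1 (c.ζ_eq_zero _ hx h)).symm

theorem ρ_D : ∀ x ∈ c.D, ρ x ∈ c.D := fun x hx => by
  rw [mem_D, δ_comp c.hyp.comm]; exact c.hyp.ρ_mem _ hx

theorem A_ρ {x : Q} (hx : x ∈ c.D) : c.A (ρ x) = c.l * c.A x := by
  simp only [A]; rw [δ_comp c.hyp.comm, c.ζ_ρ _ hx]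

theorem α_D : ∀ x ∈ c.D, α x ∈ c.D := fun x hx => by
  have e : α x = x * δ α x := by simp [δ]
  rw [e]; exact c.D.mul_mem hx (c.C_le_D hx)

theorem exists_mem_D (hC : C ≠ ⊤) : ∃ x ∈ c.D, c.A x ≠ 0 := by
  obtain ⟨x, -, hxC, hxd⟩ := exists_next c.hyp.p2 α c.hyp.invol le_top
    (fun h => hC (top_le_iff.1 h)) (fun x _ => mem_top _)
    (fun x hx => by rw [(c.hyp.mem x).1 hx]; exact hx)
  exact ⟨x, hxd, fun h => hxC (c.mem_C_of_A hxd h)⟩

theorem A_surj (hC : C ≠ ⊤) (t : GaloisField 2 n) : ∃ x ∈ c.D, c.A x = t := by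
  obtain ⟨x₀, hx₀, hne⟩ := c.exists_mem_D hC
  exact orbit_surj c.gen c.ρ_D c.A (fun x hx => c.A_ρ hx) c.A_one hx₀ hne t

theorem ζ_comm_mul_left {x x' y : Q} (h : ⁅x', y⁆ ∈ C) (h' : ⁅x, y⁆ ∈ C) :
    c.ζ ⁅x * x', y⁆ = c.ζ ⁅x, y⁆ + c.ζ ⁅x', y⁆ := by
  have e : ⁅x * x', y⁆ = x * ⁅x', y⁆ * x⁻¹ * ⁅x, y⁆ := by simp only [commutatorElement_def]; group
  rw [e, c.hyp.central _ h x, mul_inv_cancel_right, c.ζ_mul _ h _ h', add_comm]

theorem ζ_comm_mul_right {x y y' : Q} (h : ⁅x, y⁆ ∈ C) (h' : ⁅x, y'⁆ ∈ C) :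
    c.ζ ⁅x, y * y'⁆ = c.ζ ⁅x, y⁆ + c.ζ ⁅x, y'⁆ := by
  have e : ⁅x, y * y'⁆ = ⁅x, y⁆ * (y * ⁅x, y'⁆ * y⁻¹) := by simp only [commutatorElement_def]; group
  rw [e, c.hyp.central _ h' y, mul_inv_cancel_right, c.ζ_mul _ h _ h']

theorem ζ_comm_ρ {x y : Q} (h : ⁅x, y⁆ ∈ C) : c.ζ ⁅ρ x, ρ y⁆ = c.l * c.ζ ⁅x, y⁆ := by
  rw [← c.ζ_ρ _ h]; simp only [commutatorElement_def, map_mul, map_inv]

theorem comm_of_ζ {x y : Q} (h : ⁅x, y⁆ ∈ C) (h0 : c.ζ ⁅x, y⁆ = 0) : x * y = y * x :=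
  commutatorElement_eq_one_iff_mul_comm.1 (c.ζ_eq_zero _ h h0)

theorem comm_D (hC : C ≠ ⊤) : ∀ x ∈ c.D, ∀ y ∈ c.D, x * y = y * x := by
  have hin : ∀ x ∈ c.D, ∀ y ∈ c.D, ⁅x, y⁆ ∈ C := fun x hx y hy => by
    rw [c.hyp.mem]
    have ex : α x = x * δ α x := by simp [δ]
    have ey : α y = y * δ α y := by simp [δ]
    calc α ⁅x, y⁆ = ⁅x * δ α x, y * δ α y⁆ := by
          rw [← ex, ← ey]; simp only [commutatorElement_def, map_mul, map_inv]
      _ = ⁅x, y⁆ := by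
          have h1 : ∀ g, Commute (δ α x) g := fun g => (c.hyp.central _ hx g).symm
          have h2 : ∀ g, Commute (δ α y) g := fun g => (c.hyp.central _ hy g).symm
          simp only [commutatorElement_def, mul_inv_rev]
          calc x * δ α x * (y * δ α y) * ((δ α x)⁻¹ * x⁻¹) * ((δ α y)⁻¹ * y⁻¹)
              = x * (δ α x * (y * δ α y)) * ((δ α x)⁻¹ * x⁻¹) * ((δ α y)⁻¹ * y⁻¹) := by group
            _ = x * y * (δ α y * x⁻¹) * ((δ α y)⁻¹ * y⁻¹) := by rw [(h1 _).eq]; group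
            _ = x * y * x⁻¹ * y⁻¹ := by rw [(h2 _).eq]; group
  intro x hx y hy
  exact c.comm_of_ζ (hin x hx y hy) (alternating_eq_zero c.gen c.ρ_D c.A (fun x y => c.ζ ⁅x, y⁆)
    (fun x hx => c.A_ρ hx) (fun x hx y hy => c.A_mul hx hy) (c.A_surj hC)
    (fun x hx x' hx' y hy => c.ζ_comm_mul_left (hin x' hx' y hy) (hin x hx y hy))
    (fun x hx y hy y' hy' => c.ζ_comm_mul_right (hin x hx y hy) (hin x hx y' hy'))
    (fun x hx y hy h => by
      rw [commutatorElement_eq_one_iff_mul_comm.2 (c.hyp.central x (c.mem_C_of_A hx h) y).symm, c.ζ_one])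
    (fun x _ => by rw [commutatorElement_self, c.ζ_one]) (fun x hx y hy => c.ζ_comm_ρ (hin x hx y hy)) x hx y hy)

theorem sq_D_mem (hC : C ≠ ⊤) : ∀ x ∈ c.D, x * x ∈ C := fun x hx => by
  rw [c.hyp.mem]
  have ex : α x = x * δ α x := by simp [δ]
  rw [map_mul, ex, mul_assoc, ← mul_assoc (δ α x), ← c.hyp.central _ hx x, mul_assoc x, c.hyp.exp _ hx, mul_one]

/-- In the nonabelian case the automorphism inverts the first layer. -/
theorem layer_one (hC : C ≠ ⊤) (hna : ¬ ∀ x y : Q, x * y = y * x) :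
    c.D ≠ ⊤ ∧ ∀ x ∈ c.D, c.ζ (x * x) = c.A x := by
  have hDtop : c.D ≠ ⊤ := fun h => hna fun x y => c.comm_D hC x (h ▸ mem_top x) y (h ▸ mem_top y)
  have hmul : ∀ x ∈ c.D, ∀ y ∈ c.D, c.ζ ((x * y) * (x * y)) = c.ζ (x * x) + c.ζ (y * y) := fun x hx y hy => by
    rw [← c.ζ_mul _ (c.sq_D_mem hC x hx) _ (c.sq_D_mem hC y hy)]
    congr 1
    exact Commute.mul_mul_mul_comm (c.comm_D hC y hy x hx) x y
  obtain ⟨κ, hκ⟩ := exists_factor c.gen c.ρ_D c.A (fun x => c.ζ (x * x)) (fun x hx => c.A_ρ hx)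
    (fun x hx => by rw [← map_mul, c.ζ_ρ _ (c.sq_D_mem hC x hx)]) (c.A_surj hC)
    (fun x hx y hy h => by
      have hu : y⁻¹ * x ∈ C := c.mem_C_of_A (c.D.mul_mem (c.D.inv_mem hy) hx)
        (by rw [c.A_mul (c.D.inv_mem hy) hx, c.A_inv hy, h, CharTwo.add_self_eq_zero])
      have h' := hmul y hy _ (c.C_le_D hu)
      rw [mul_inv_cancel_left, c.hyp.exp _ hu, c.ζ_one, add_zero] at h'
      exact h')
    c.A_one (by rw [mul_one, c.ζ_one])
  refine ⟨hDtop, ?_⟩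
  by_contra hne
  have hκ1 : κ ≠ 1 := fun h => hne fun x hx => by rw [hκ x hx, h, one_mul]
  obtain ⟨y, -, hy, hyd⟩ := exists_next c.hyp.p2 α c.hyp.invol le_top
    (fun h => hDtop (top_le_iff.1 h)) (fun x _ => mem_top _) c.α_D
  refine hy (c.mem_D.2 ?_)
  set d := δ α y with hd
  have e : δ α d = d⁻¹ * d⁻¹ := by rw [δ, inverted_δ c.hyp.invol]
  have h1 : c.A d = κ * c.A d := by
    calc c.A d = c.ζ (δ α d) := rfl
      _ = c.ζ (d * d)⁻¹ := by rw [e, mul_inv_rev]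
      _ = κ * c.A d := by rw [c.ζ_inv (c.sq_D_mem hC d hyd), hκ d hyd]
  refine c.mem_C_of_A hyd ?_
  by_contra h0
  exact hκ1 (mul_right_cancel₀ h0 (by rw [one_mul]; exact h1.symm))

include c in
theorem card_layer {H N : Subgroup Q} (f : Q → GaloisField 2 n) (hNH : N ≤ H)
    (hadd : ∀ x ∈ H, ∀ y ∈ H, f (x * y) = f x + f y) (hker : ∀ x ∈ H, f x = 0 ↔ x ∈ N)
    (hsurj : ∀ t, ∃ x ∈ H, f x = t) : Nat.card H = Nat.card N * 2 ^ n := by
  have h1 : f 1 = 0 := (hker 1 H.one_mem).2 N.one_mem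
  let φ : H →* Multiplicative (GaloisField 2 n) :=
    { toFun := fun x => Multiplicative.ofAdd (f x.1)
      map_one' := by rw [OneMemClass.coe_one, h1]; rfl
      map_mul' := fun x y => by rw [Subgroup.coe_mul, hadd _ x.2 _ y.2]; rfl }
  have hφ : Function.Surjective φ := fun t => by
    obtain ⟨x, hx, e⟩ := hsurj t.toAdd
    exact ⟨⟨x, hx⟩, congrArg Multiplicative.ofAdd e⟩
  have hk : φ.ker = N.subgroupOf H := by
    ext x
    rw [MonoidHom.mem_ker, Subgroup.mem_subgroupOf, ← hker _ x.2]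
    exact Iff.rfl
  rw [Subgroup.card_eq_card_quotient_mul_card_subgroup φ.ker,
    Nat.card_congr (QuotientGroup.quotientKerEquivOfSurjective φ hφ).toEquiv, Nat.card_congr Multiplicative.toAdd,
    GaloisField.card 2 n (by have := c.hyp.two; omega), hk, Nat.card_congr (Subgroup.subgroupOfEquivOfLe hNH).toEquiv,
    mul_comm]

theorem card_D (hC : C ≠ ⊤) : Nat.card c.D = 2 ^ n * 2 ^ n := by
  rw [c.card_layer c.A c.C_le_D (fun x hx y hy => c.A_mul hx hy)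
    (fun x hx => ⟨c.mem_C_of_A hx, c.A_of_C⟩) (c.A_surj hC), c.hyp.card]

end Coord

end CfsgLib.InvolutionFixed
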