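import Mathlib
import Cfsg.Agent.Lib.PGroup.InvolutionFixed.Layers

/-!
The second layer, and the bound `|Q| = q ^ 3` for the non-abelian groups.
-/

set_option autoImplicit false
set_option linter.style.haveILetI false

namespace CfsgLib.InvolutionFixed

open Subgroup
open scoped commutatorElement

universe u

namespace Coord

variable {Q : Type u} [Group Q] [Finite Q] {α ρ : MulAut Q} {C : Subgroup Q} {n : ℕ} (c : Coord α ρ C n)

/-- The hypotheses pass to the quotient by the fixed points. -/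
theorem hyp_quotient [C.Normal] (hC : C ≠ ⊤) : ∃ α' ρ' : MulAut (Q ⧸ C),
    (∀ x : Q, α' (QuotientGroup.mk' C x) = QuotientGroup.mk' C (α x)) ∧
    (∀ x : Q, ρ' (QuotientGroup.mk' C x) = QuotientGroup.mk' C (ρ x)) ∧
    Hyp α' ρ' (c.D.map (QuotientGroup.mk' C)) n := by
  classical
  set π := QuotientGroup.mk' C with hπ
  have hmap : ∀ σ : MulAut Q, (∀ x ∈ C, σ x ∈ C) → C.map σ.toMonoidHom = C := fun σ hσ => by
    refine Subgroup.eq_of_le_of_card_ge (Subgroup.map_le_iff_le_comap.2 fun x hx => hσ x hx) ?_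
    rw [Subgroup.card_map_of_injective σ.injective]
  let α' : MulAut (Q ⧸ C) := QuotientGroup.congr C C α (hmap α fun x hx => by rw [(c.hyp.mem x).1 hx]; exact hx)
  let ρ' : MulAut (Q ⧸ C) := QuotientGroup.congr C C ρ (hmap ρ c.hyp.ρ_mem)
  have hα' : ∀ x, α' (π x) = π (α x) := fun x => rfl
  have hρ' : ∀ x, ρ' (π x) = π (ρ x) := fun x => rfl
  have hρk : ∀ (k : ℕ) x, (ρ' ^ k) (π x) = π ((ρ ^ k) x) := fun k => by
    induction k with
    | zero => intro x; rfl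
    | succ k ih => intro x; rw [pow_succ', pow_succ', MulAut.mul_apply, ih, hρ']; rfl
  have hsurj : Function.Surjective π := QuotientGroup.mk'_surjective C
  have hker : ∀ x, π x = 1 ↔ x ∈ C := fun x => QuotientGroup.eq_one_iff x
  have hmem : ∀ x, π x ∈ c.D.map π ↔ x ∈ c.D := fun x => by
    refine ⟨fun ⟨y, hy, e⟩ => ?_, fun h => Subgroup.mem_map_of_mem π h⟩
    have := c.D.mul_mem hy (c.C_le_D ((hker (y⁻¹ * x)).1 (by rw [map_mul, map_inv, e, inv_mul_cancel])))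
    rwa [mul_inv_cancel_left] at this
  choose s hs hsA using c.A_surj hC
  have hbij : Function.Bijective (fun t => (⟨π (s t), Subgroup.mem_map_of_mem π (hs t)⟩ : c.D.map π)) := by
    constructor
    · intro t t' h
      have h1 : π ((s t)⁻¹ * s t') = 1 := by
        rw [map_mul, map_inv, show π (s t) = π (s t') from congrArg Subtype.val h, inv_mul_cancel]
      have h2 := c.A_mul_C (hs t) ((hker _).1 h1)
      rw [mul_inv_cancel_left, hsA, hsA] at h2
      exact h2.symm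
    · rintro ⟨_, x, hx, rfl⟩
      refine ⟨c.A x, Subtype.ext ?_⟩
      have hc : (s (c.A x))⁻¹ * x ∈ C := c.mem_C_of_A (c.D.mul_mem (c.D.inv_mem (hs _)) hx)
        (by rw [c.A_mul (c.D.inv_mem (hs _)) hx, c.A_inv (hs _), hsA, CharTwo.add_self_eq_zero])
      have := (hker _).2 hc
      rw [map_mul, map_inv, inv_mul_eq_one] at this
      exact this
  refine ⟨α', ρ', hα', hρ', ?_⟩
  constructor
  · exact c.hyp.p2.to_quotient C
  · exact c.hyp.two
  · intro x; obtain ⟨x, rfl⟩ := hsurj x; rw [hα', hα', c.hyp.invol]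
  · intro x; obtain ⟨x, rfl⟩ := hsurj x; rw [hρ', hα', hα', hρ', c.hyp.comm]
  · intro x; obtain ⟨x, rfl⟩ := hsurj x
    rw [hmem, hα']
    constructor
    · intro h
      have := (hker _).2 h
      rw [δ, map_mul, map_inv, inv_mul_eq_one] at this
      exact this.symm
    · intro h
      refine (hker _).1 ?_
      rw [δ, map_mul, map_inv, h, inv_mul_cancel]
  · rintro _ ⟨x, hx, rfl⟩
    rw [← map_mul]; exact (hker _).2 (c.sq_D_mem hC x hx)
  · rw [← Nat.card_congr (Equiv.ofBijective _ hbij), GaloisField.card 2 n (by have := c.hyp.two; omega)]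
  · rintro _ _ ⟨x, hx, rfl⟩ ⟨y, hy, rfl⟩ hx1 hy1
    have hA : ∀ z ∈ c.D, π z ≠ 1 → c.A z ≠ 0 := fun z hz hz1 h => hz1 ((hker z).2 (c.mem_C_of_A hz h))
    obtain ⟨k, hk⟩ := c.gen (c.A y / c.A x) (div_ne_zero (hA y hy hy1) (hA x hx hx1))
    refine ⟨k, ?_⟩
    rw [hρk]
    have hxk := iter_mem c.ρ_D k hx
    have hc : ((ρ ^ k) x)⁻¹ * y ∈ C := c.mem_C_of_A (c.D.mul_mem (c.D.inv_mem hxk) hy) (by
      rw [c.A_mul (c.D.inv_mem hxk) hy, c.A_inv hxk, iter_val c.ρ_D c.A (fun z hz => c.A_ρ hz) k hx, ← hk,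
        div_mul_cancel₀ _ (hA x hx hx1), CharTwo.add_self_eq_zero])
    have := (hker _).2 hc
    rw [map_mul, map_inv, inv_mul_eq_one] at this
    exact this

theorem comm_D_mem (hC : C ≠ ⊤) {d : Q} (hd : d ∈ c.D) (y : Q) : ⁅d, y⁆ ∈ C := by
  haveI := c.C_normal
  obtain ⟨α', ρ', -, -, h'⟩ := c.hyp_quotient hC
  refine (QuotientGroup.eq_one_iff _).1 ?_
  show QuotientGroup.mk' C ⁅d, y⁆ = 1
  rw [map_commutatorElement]
  exact commutatorElement_eq_one_iff_mul_comm.2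
    (h'.central _ (Subgroup.mem_map_of_mem _ hd) _).symm

theorem conj_D (hC : C ≠ ⊤) {d : Q} (hd : d ∈ c.D) (y : Q) :
    y * d * y⁻¹ ∈ c.D ∧ c.A (y * d * y⁻¹) = c.A d := by
  have h1 : ⁅d⁻¹, y⁆ ∈ C := c.comm_D_mem hC (c.D.inv_mem hd) y
  have e : y * d * y⁻¹ = d * ⁅d⁻¹, y⁆ := by simp only [commutatorElement_def]; group
  rw [e]
  exact ⟨c.D.mul_mem hd (c.C_le_D h1), c.A_mul_C hd h1⟩

/-- The second layer. -/
def E (hC : C ≠ ⊤) : Subgroup Q where
  carrier := {x | δ α x ∈ c.D}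
  one_mem' := by show δ α 1 ∈ c.D; rw [δ_one]; exact one_mem _
  mul_mem' := fun {x y} (hx : δ α x ∈ c.D) (hy : δ α y ∈ c.D) => by
    show δ α (x * y) ∈ c.D
    rw [δ_mul]
    refine c.D.mul_mem ?_ hy
    simpa using (c.conj_D hC hx y⁻¹).1
  inv_mem' := fun {x} (hx : δ α x ∈ c.D) => by
    show δ α x⁻¹ ∈ c.D
    have e : δ α x⁻¹ = x * (δ α x)⁻¹ * x⁻¹ := by simp only [δ, map_inv]; group
    rw [e]; exact (c.conj_D hC (c.D.inv_mem hx) x).1

/-- The coordinate on the second layer. -/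
noncomputable def a (x : Q) : GaloisField 2 n := c.A (δ α x)

variable (hC : C ≠ ⊤)

theorem a_mul {x y : Q} (hx : x ∈ c.E hC) (hy : y ∈ c.E hC) : c.a (x * y) = c.a x + c.a y := by
  simp only [a]
  rw [δ_mul, c.A_mul (by simpa using (c.conj_D hC (show δ α x ∈ c.D from hx) y⁻¹).1) hy]
  congr 1
  simpa using (c.conj_D hC (show δ α x ∈ c.D from hx) y⁻¹).2

theorem D_le_E : c.D ≤ c.E hC := fun x hx => c.C_le_D hx

theorem a_of_D {x : Q} (hx : x ∈ c.D) : c.a x = 0 := c.A_of_C hx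

theorem a_one : c.a 1 = 0 := c.a_of_D (one_mem _)

theorem mem_D_of_a {x : Q} (hx : x ∈ c.E hC) (h : c.a x = 0) : x ∈ c.D := c.mem_C_of_A hx h

theorem a_inv {x : Q} (hx : x ∈ c.E hC) : c.a x⁻¹ = c.a x := by
  have h := c.a_mul hC ((c.E hC).inv_mem hx) hx
  rw [inv_mul_cancel, c.a_one] at h
  exact CharTwo.add_eq_zero.1 h.symm

theorem ρ_E : ∀ x ∈ c.E hC, ρ x ∈ c.E hC := fun x hx => by
  show δ α (ρ x) ∈ c.D
  rw [δ_comp c.hyp.comm]; exact c.ρ_D _ hx

theorem a_ρ {x : Q} (hx : x ∈ c.E hC) : c.a (ρ x) = c.l * c.a x := by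
  simp only [a]; rw [δ_comp c.hyp.comm]; exact c.A_ρ hx

theorem α_E : ∀ x ∈ c.E hC, α x ∈ c.E hC := fun x hx => by
  have e : α x = x * δ α x := by simp [δ]
  rw [e]; exact (c.E hC).mul_mem hx (c.D_le_E hC hx)

theorem a_surj (hD : c.D ≠ ⊤) (t : GaloisField 2 n) : ∃ x ∈ c.E hC, c.a x = t := by
  obtain ⟨x, -, hxD, hxd⟩ := exists_next c.hyp.p2 α c.hyp.invol le_top
    (fun h => hD (top_le_iff.1 h)) (fun x _ => mem_top _) c.α_D
  exact orbit_surj c.gen (c.ρ_E hC) c.a (fun x hx => c.a_ρ hC hx) c.a_one (x₀ := x) hxd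
    (fun h => hxD (c.mem_D_of_a hC hxd h)) t

theorem card_E (hD : c.D ≠ ⊤) : Nat.card (c.E hC) = 2 ^ n * 2 ^ n * 2 ^ n := by
  rw [c.card_layer c.a (c.D_le_E hC) (fun x hx y hy => c.a_mul hC hx hy)
    (fun x hx => ⟨c.mem_D_of_a hC hx, c.a_of_D⟩) (c.a_surj hC hD), c.card_D hC]

include hC in
theorem A_comm_mul_left {x x' y : Q} (h : ⁅x', y⁆ ∈ c.D) (h' : ⁅x, y⁆ ∈ c.D) :
    c.A ⁅x * x', y⁆ = c.A ⁅x, y⁆ + c.A ⁅x', y⁆ := by
  have e : ⁅x * x', y⁆ = x * ⁅x', y⁆ * x⁻¹ * ⁅x, y⁆ := by simp only [commutatorElement_def]; group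
  rw [e, c.A_mul (c.conj_D hC h x).1 h', (c.conj_D hC h x).2, add_comm]

include hC in
theorem A_comm_mul_right {x y y' : Q} (h : ⁅x, y⁆ ∈ c.D) (h' : ⁅x, y'⁆ ∈ c.D) :
    c.A ⁅x, y * y'⁆ = c.A ⁅x, y⁆ + c.A ⁅x, y'⁆ := by
  have e : ⁅x, y * y'⁆ = ⁅x, y⁆ * (y * ⁅x, y'⁆ * y⁻¹) := by simp only [commutatorElement_def]; group
  rw [e, c.A_mul h (c.conj_D hC h' y).1, (c.conj_D hC h' y).2]

theorem A_comm_ρ {x y : Q} (h : ⁅x, y⁆ ∈ c.D) : c.A ⁅ρ x, ρ y⁆ = c.l * c.A ⁅x, y⁆ := by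
  rw [← c.A_ρ h]; simp only [commutatorElement_def, map_mul, map_inv]

theorem comm_E_mem (hD : c.D ≠ ⊤) : ∀ x ∈ c.E hC, ∀ y ∈ c.E hC, ⁅x, y⁆ ∈ C := by
  haveI := c.C_normal
  obtain ⟨α', ρ', hα', -, h'⟩ := c.hyp_quotient hC
  have hin : ∀ x ∈ c.E hC, ∀ y ∈ c.E hC, ⁅x, y⁆ ∈ c.D := fun x hx y hy => by
    set π := QuotientGroup.mk' C with hπ
    show δ α ⁅x, y⁆ ∈ C
    refine (QuotientGroup.eq_one_iff _).1 ?_
    show π (δ α ⁅x, y⁆) = 1
    have hX : ∀ g, Commute (π (δ α x)) g := fun g => (h'.central _ (Subgroup.mem_map_of_mem _ hx) g).symm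
    have hY : ∀ g, Commute (π (δ α y)) g := fun g => (h'.central _ (Subgroup.mem_map_of_mem _ hy) g).symm
    have ex : π (α x) = π x * π (δ α x) := by rw [← map_mul]; simp [δ]
    have ey : π (α y) = π y * π (δ α y) := by rw [← map_mul]; simp [δ]
    have he : π (α ⁅x, y⁆) = π ⁅x, y⁆ := by
      simp only [commutatorElement_def, map_mul, map_inv, ex, ey, mul_inv_rev]
      calc π x * π (δ α x) * (π y * π (δ α y)) * ((π (δ α x))⁻¹ * (π x)⁻¹) * ((π (δ α y))⁻¹ * (π y)⁻¹)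
          = π x * (π (δ α x) * (π y * π (δ α y))) * ((π (δ α x))⁻¹ * (π x)⁻¹) *
              ((π (δ α y))⁻¹ * (π y)⁻¹) := by group
        _ = π x * π y * (π (δ α y) * (π x)⁻¹) * ((π (δ α y))⁻¹ * (π y)⁻¹) := by rw [(hX _).eq]; group
        _ = π x * π y * (π x)⁻¹ * (π y)⁻¹ := by rw [(hY _).eq]; group
    rw [δ, map_mul, map_inv, he, inv_mul_cancel]
  intro x hx y hy
  exact c.mem_C_of_A (hin x hx y hy) (alternating_eq_zero c.gen (c.ρ_E hC) c.a (fun x y => c.A ⁅x, y⁆)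
    (fun x hx => c.a_ρ hC hx) (fun x hx y hy => c.a_mul hC hx hy) (c.a_surj hC hD)
    (fun x hx x' hx' y hy => c.A_comm_mul_left hC (hin x' hx' y hy) (hin x hx y hy))
    (fun x hx y hy y' hy' => c.A_comm_mul_right hC (hin x hx y hy) (hin x hx y' hy'))
    (fun x hx y _ h => c.A_of_C (c.comm_D_mem hC (c.mem_D_of_a hC hx h) y))
    (fun x _ => by rw [commutatorElement_self, c.A_one]) (fun x hx y hy => c.A_comm_ρ (hin x hx y hy)) x hx y hy)

/-- The structure of the second layer. -/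
theorem layer_two (hna : ¬ ∀ x y : Q, x * y = y * x) :
    ∃ κ : GaloisField 2 n, (∀ x ∈ c.E hC, x * x ∈ c.D ∧ c.A (x * x) = κ * c.a x) ∧
      (κ ≠ 0 → ∀ x ∈ c.E hC, ∀ y ∈ c.E hC, x * y = y * x) ∧ (κ ≠ 1 → c.E hC = ⊤) := by
  obtain ⟨hD, hsq⟩ := c.layer_one hC hna
  have hsqE : ∀ x ∈ c.E hC, x * x ∈ c.D := fun x hx => by
    have hd : δ α x ∈ c.D := hx
    obtain ⟨h1, h2⟩ := c.conj_D hC hd x⁻¹
    rw [inv_inv] at h1 h2
    show δ α (x * x) ∈ C
    rw [δ_mul]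
    refine c.mem_C_of_A (c.D.mul_mem h1 hd) ?_
    rw [c.A_mul h1 hd, h2, CharTwo.add_self_eq_zero]
  have hwd : ∀ x ∈ c.E hC, ∀ u ∈ c.D, c.A ((x * u) * (x * u)) = c.A (x * x) := fun x hx u hu => by
    obtain ⟨h1, h2⟩ := c.conj_D hC hu x⁻¹
    rw [inv_inv] at h1 h2
    have e : (x * u) * (x * u) = (x * x) * ((x⁻¹ * u * x) * u) := by group
    rw [e, c.A_mul (hsqE x hx) (c.D.mul_mem h1 hu), c.A_mul h1 hu, h2, CharTwo.add_self_eq_zero, add_zero]
  obtain ⟨κ, hκ⟩ := exists_factor c.gen (c.ρ_E hC) c.a (fun x => c.A (x * x)) (fun x hx => c.a_ρ hC hx)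
    (fun x hx => by rw [← map_mul, c.A_ρ (hsqE x hx)]) (c.a_surj hC hD)
    (fun x hx y hy h => by
      have hu : y⁻¹ * x ∈ c.D := c.mem_D_of_a hC ((c.E hC).mul_mem ((c.E hC).inv_mem hy) hx)
        (by rw [c.a_mul hC ((c.E hC).inv_mem hy) hx, c.a_inv hC hy, h, CharTwo.add_self_eq_zero])
      have := hwd y hy _ hu
      rwa [mul_inv_cancel_left] at this)
    c.a_one (by rw [mul_one, c.A_one])
  refine ⟨κ, fun x hx => ⟨hsqE x hx, hκ x hx⟩, fun h0 => ?_, fun h1 => ?_⟩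
  · have hin := c.comm_E_mem hC hD
    have hk : ∀ x ∈ c.E hC, ∀ y ∈ c.E hC, c.a x = 0 → c.ζ ⁅x, y⁆ = 0 := fun x hx y hy h => by
      obtain ⟨x₁, hx₁, e⟩ := c.a_surj hC hD (c.A x / κ)
      have hxD := c.mem_D_of_a hC hx h
      have hA : c.A (x₁ * x₁) = c.A x := by rw [hκ x₁ hx₁, e, mul_div_cancel₀ _ h0]
      have hc : (x₁ * x₁)⁻¹ * x ∈ C := c.mem_C_of_A (c.D.mul_mem (c.D.inv_mem (hsqE x₁ hx₁)) hxD)
        (by rw [c.A_mul (c.D.inv_mem (hsqE x₁ hx₁)) hxD, c.A_inv (hsqE x₁ hx₁), hA, CharTwo.add_self_eq_zero])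
      have h2 : c.ζ ⁅(x₁ * x₁) * ((x₁ * x₁)⁻¹ * x), y⁆ = 0 := by
        have hc0 : ⁅(x₁ * x₁)⁻¹ * x, y⁆ = 1 :=
          commutatorElement_eq_one_iff_mul_comm.2 (c.hyp.central _ hc y).symm
        rw [c.ζ_comm_mul_left (by rw [hc0]; exact one_mem _)
          (hin _ ((c.E hC).mul_mem hx₁ hx₁) y hy), hc0, c.ζ_one, add_zero,
          c.ζ_comm_mul_left (hin x₁ hx₁ y hy) (hin x₁ hx₁ y hy), CharTwo.add_self_eq_zero]
      rwa [mul_inv_cancel_left] at h2
    intro x hx y hy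
    exact c.comm_of_ζ (hin x hx y hy) (alternating_eq_zero c.gen (c.ρ_E hC) c.a (fun x y => c.ζ ⁅x, y⁆)
      (fun x hx => c.a_ρ hC hx) (fun x hx y hy => c.a_mul hC hx hy) (c.a_surj hC hD)
      (fun x hx x' hx' y hy => c.ζ_comm_mul_left (hin x' hx' y hy) (hin x hx y hy))
      (fun x hx y hy y' hy' => c.ζ_comm_mul_right (hin x hx y hy) (hin x hx y' hy'))
      hk (fun x _ => by rw [commutatorElement_self, c.ζ_one]) (fun x hx y hy => c.ζ_comm_ρ (hin x hx y hy))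
      x hx y hy)
  · by_contra htop
    obtain ⟨y, -, hy, hye⟩ := exists_next c.hyp.p2 α c.hyp.invol le_top
      (fun h => htop (top_le_iff.1 h)) (fun x _ => mem_top _) (c.α_E hC)
    refine hy ?_
    set e := δ α y with he
    have h2 : δ α e = (e * e)⁻¹ := by rw [δ, inverted_δ c.hyp.invol, mul_inv_rev]
    have h3 : c.a e = κ * c.a e := by
      calc c.a e = c.A (δ α e) := rfl
        _ = κ * c.a e := by rw [h2, c.A_inv (hsqE e hye), hκ e hye]
    show δ α y ∈ c.D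
    refine c.mem_D_of_a hC hye ?_
    by_contra h0
    exact h1 (mul_right_cancel₀ h0 (by rw [one_mul]; exact h3.symm))

/-- Squares of elements lie in the first layer when the whole group is the second layer. -/
theorem sq_mem_C (hna : ¬ ∀ x y : Q, x * y = y * x) (hE : c.E hC = ⊤) : ∀ x, x * x ∈ C := by
  obtain ⟨κ, hsq, hab, -⟩ := c.layer_two hC hna
  have hκ : κ = 0 := by
    by_contra h
    exact hna fun x y => hab h x (hE ▸ mem_top x) y (hE ▸ mem_top y)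
  intro x
  obtain ⟨h1, h2⟩ := hsq x (hE ▸ mem_top x)
  exact c.mem_C_of_A h1 (by rw [h2, hκ, zero_mul])

/-- The case of an abelian quotient by the fixed points. -/
theorem comm_of_quotient_comm (hna : ¬ ∀ x y : Q, x * y = y * x) (hE : c.E hC ≠ ⊤)
    (hR : ∀ x y : Q, ⁅x, y⁆ ∈ C) : False := by
  classical
  haveI := c.C_normal
  obtain ⟨hD, -⟩ := c.layer_one hC hna
  obtain ⟨κ, hsq, -, htop⟩ := c.layer_two hC hna
  have hκ : κ = 1 := by_contra fun h => hE (htop h)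
  set π := QuotientGroup.mk' C with hπ
  have hsurj : Function.Surjective π := QuotientGroup.mk'_surjective C
  have hker : ∀ x, π x = 1 ↔ x ∈ C := fun x => QuotientGroup.eq_one_iff x
  letI : CommGroup (Q ⧸ C) := { (inferInstance : Group (Q ⧸ C)) with
    mul_comm := fun x y => by
      obtain ⟨x, rfl⟩ := hsurj x
      obtain ⟨y, rfl⟩ := hsurj y
      rw [← commutatorElement_eq_one_iff_mul_comm, ← map_commutatorElement]
      exact (hker _).2 (hR x y) }
  -- elements with square in `C`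
  have hΩ : ∀ y : Q, y * y ∈ C → y ∈ c.D := by
    let O : Subgroup Q := ((powMonoidHom 2 : (Q ⧸ C) →* (Q ⧸ C)).ker).comap π
    have hO : ∀ x, x ∈ O ↔ x * x ∈ C := fun x => by
      show π x ^ 2 = 1 ↔ _
      rw [sq, ← map_mul, hker]
    intro y hy
    by_contra hyD
    obtain ⟨x, hxO, hxD, hxd⟩ := exists_next c.hyp.p2 α c.hyp.invol (H := O) (N := c.D)
      (fun d hd => (hO d).2 (c.sq_D_mem hC d hd)) (fun h => hyD (h ((hO y).2 hy)))
      (fun x hx => (hO _).2 (by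
        rw [← map_mul, (c.hyp.mem _).1 ((hO x).1 hx)]; exact (hO x).1 hx)) c.α_D
    refine hxD (c.mem_D_of_a hC hxd ?_)
    have h := (hsq x hxd).2
    rw [c.A_of_C ((hO x).1 hxO), hκ, one_mul] at h
    exact h.symm
  -- the least power landing in the first layer
  obtain ⟨N, hN⟩ := IsPGroup.iff_card.1 c.hyp.p2
  have hex : ∃ r, ∀ x : Q, x ^ 2 ^ r ∈ c.D := ⟨N, fun x => by rw [← hN, pow_card_eq_one']; exact one_mem _⟩
  have hr := Nat.find_spec hex
  obtain ⟨s, hs⟩ : ∃ s, Nat.find hex = s + 1 := by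
    refine Nat.exists_eq_succ_of_ne_zero fun h0 => hD (top_le_iff.1 fun x _ => ?_)
    have := hr x
    rwa [h0, pow_zero, pow_one] at this
  obtain ⟨x₀, hx₀⟩ : ∃ x₀ : Q, x₀ ^ 2 ^ s ∉ c.D := by
    have := Nat.find_min hex (show s < Nat.find hex by omega)
    push Not at this
    exact this
  set M := 2 ^ Nat.find hex with hM
  have hM2 : 2 ^ s * 2 = M := by rw [hM, hs, pow_succ]
  let f : Q → GaloisField 2 n := fun x => c.A (x ^ M)
  have hfadd : ∀ x y, f (x * y) = f x + f y := fun x y => by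
    simp only [f]
    have hc : ((x ^ M * y ^ M)⁻¹ * (x * y) ^ M) ∈ C := (hker _).1 (by
      simp only [map_mul, map_inv, map_pow, mul_pow, inv_mul_cancel])
    have h := c.A_mul_C (c.D.mul_mem (hr x) (hr y)) hc
    rw [mul_inv_cancel_left] at h
    rw [h, c.A_mul (hr x) (hr y)]
  have hfρ : ∀ x ∈ (⊤ : Subgroup Q), f (ρ x) = c.l * f x := fun x _ => by
    simp only [f]; rw [← map_pow]; exact c.A_ρ (hr x)
  have hf0 : f x₀ ≠ 0 := fun h => hx₀ (hΩ _ (by
    rw [← pow_two, ← pow_mul, hM2]; exact c.mem_C_of_A (hr x₀) h))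
  have hfsurj : ∀ t, ∃ x ∈ (⊤ : Subgroup Q), f x = t :=
    orbit_surj c.gen (fun x _ => mem_top _) f hfρ (by simp only [f, one_pow, c.A_one]) (mem_top x₀) hf0
  -- the kernel consists of squares modulo `C`
  have hkersq : ∀ x, f x = 0 → ∃ y, (y * y)⁻¹ * x ∈ C := by
    let sqh : (Q ⧸ C) →* (Q ⧸ C) := powMonoidHom 2
    let ph : (Q ⧸ C) →* (Q ⧸ C) := powMonoidHom M
    have hle : sqh.range ≤ ph.ker := by
      rintro _ ⟨w, rfl⟩
      obtain ⟨y, rfl⟩ := hsurj w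
      show (π y ^ 2) ^ M = 1
      rw [← pow_mul, mul_comm, pow_mul, ← map_pow, ← map_pow, hker, sq]
      exact c.sq_D_mem hC _ (hr y)
    have h1 : sqh.ker = c.D.map π := by
      ext w
      obtain ⟨y, rfl⟩ := hsurj w
      rw [MonoidHom.mem_ker, powMonoidHom_apply, sq, ← map_mul, hker]
      refine ⟨fun h => Subgroup.mem_map_of_mem π (hΩ y h), fun ⟨d, hd, e⟩ => ?_⟩
      rw [← hker, map_mul, ← e, ← map_mul, hker]
      exact c.sq_D_mem hC d hd
    have h2 : ph.range = c.D.map π := by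
      refine le_antisymm ?_ ?_
      · rintro _ ⟨w, rfl⟩
        obtain ⟨y, rfl⟩ := hsurj w
        exact ⟨y ^ M, hr y, map_pow π y M⟩
      · rintro _ ⟨d, hd, rfl⟩
        obtain ⟨y, -, hy⟩ := hfsurj (c.A d)
        refine ⟨π y, ?_⟩
        show π y ^ M = π d
        rw [← map_pow, ← inv_mul_eq_one, ← map_inv, ← map_mul, hker]
        refine c.mem_C_of_A (c.D.mul_mem (c.D.inv_mem (hr y)) hd) ?_
        rw [c.A_mul (c.D.inv_mem (hr y)) hd, c.A_inv (hr y)]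
        show f y + c.A d = 0
        rw [hy, CharTwo.add_self_eq_zero]
    have e1 := Subgroup.card_eq_card_quotient_mul_card_subgroup sqh.ker
    rw [Nat.card_congr (QuotientGroup.quotientKerEquivRange sqh).toEquiv] at e1
    have e2 := Subgroup.card_eq_card_quotient_mul_card_subgroup ph.ker
    rw [Nat.card_congr (QuotientGroup.quotientKerEquivRange ph).toEquiv] at e2
    rw [h1] at e1; rw [h2] at e2
    have hpos : 0 < Nat.card (c.D.map π) := Nat.card_pos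
    have hcard : Nat.card sqh.range = Nat.card ph.ker :=
      Nat.eq_of_mul_eq_mul_right hpos (e1.symm.trans (e2.trans (mul_comm _ _)))
    have heq : sqh.range = ph.ker := Subgroup.eq_of_le_of_card_ge hle hcard.ge
    intro x hx
    have hx' : π x ∈ ph.ker := by
      show π x ^ M = 1
      rw [← map_pow, hker]
      exact c.mem_C_of_A (hr x) hx
    rw [← heq] at hx'
    obtain ⟨w, hw⟩ := hx'
    obtain ⟨y, rfl⟩ := hsurj w
    refine ⟨y, (hker _).1 ?_⟩
    rw [map_mul, map_inv, inv_mul_eq_one, map_mul, ← sq]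
    exact hw
  refine hna fun x y => c.comm_of_ζ (hR x y) ?_
  refine alternating_eq_zero c.gen (fun z _ => mem_top _) f (fun x y => c.ζ ⁅x, y⁆) hfρ
    (fun x _ y _ => hfadd x y) hfsurj (fun x _ x' _ y _ => c.ζ_comm_mul_left (hR x' y) (hR x y))
    (fun x _ y _ y' _ => c.ζ_comm_mul_right (hR x y) (hR x y')) ?_
    (fun x _ => by rw [commutatorElement_self, c.ζ_one]) (fun x _ y _ => c.ζ_comm_ρ (hR x y))
    x (mem_top x) y (mem_top y)
  intro x _ y _ h
  obtain ⟨z, hz⟩ := hkersq x h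
  have hc0 : ⁅(z * z)⁻¹ * x, y⁆ = 1 := commutatorElement_eq_one_iff_mul_comm.2 (c.hyp.central _ hz y).symm
  have h2 : c.ζ ⁅(z * z) * ((z * z)⁻¹ * x), y⁆ = 0 := by
    rw [c.ζ_comm_mul_left (hR _ _) (hR _ _), hc0, c.ζ_one, add_zero,
      c.ζ_comm_mul_left (hR _ _) (hR _ _), CharTwo.add_self_eq_zero]
  rwa [mul_inv_cancel_left] at h2

end Coord

theorem card_eq_aux : ∀ (m : ℕ) {Q : Type u} [Group Q] [Finite Q] {α ρ : MulAut Q} {C : Subgroup Q} {n : ℕ},
    Nat.card Q ≤ m → Hyp α ρ C n → (¬ ∀ x y : Q, x * y = y * x) →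
      Nat.card Q = 2 ^ n * 2 ^ n * 2 ^ n ∧ ∀ x : Q, x * x ∈ C := by
  intro m
  induction m with
  | zero => intro Q _ _ α ρ C n hle; exact absurd hle (by have := Nat.card_pos (α := Q); omega)
  | succ m ih =>
  intro Q _ _ α ρ C n hle h hna
  obtain ⟨c⟩ := h.exists_coord
  have hC : C ≠ ⊤ := fun e => hna fun x y => h.central y (e ▸ mem_top y) x
  obtain ⟨hD, hζsq⟩ := c.layer_one hC hna
  by_cases hE : c.E hC = ⊤
  · refine ⟨?_, c.sq_mem_C hC hna hE⟩
    rw [← Subgroup.card_top (G := Q), ← hE, c.card_E hC hD]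
  exfalso
  obtain ⟨κ, hsqE, hab, htop⟩ := c.layer_two hC hna
  have hκ : κ = 1 := by_contra fun e => hE (htop e)
  haveI := c.C_normal
  set π := QuotientGroup.mk' C with hπ
  have hker : ∀ x, π x = 1 ↔ x ∈ C := fun x => QuotientGroup.eq_one_iff x
  have hsurj : Function.Surjective π := QuotientGroup.mk'_surjective C
  by_cases hR : ∀ x y : Q, ⁅x, y⁆ ∈ C
  · exact c.comm_of_quotient_comm hC hna hE hR
  obtain ⟨α', ρ', hα', -, h'⟩ := c.hyp_quotient hC
  have hna' : ¬ ∀ x y : Q ⧸ C, x * y = y * x := fun hc => hR fun x y => (hker _).1 (by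
    rw [map_commutatorElement]; exact commutatorElement_eq_one_iff_mul_comm.2 (hc _ _))
  have hq1 : 1 < 2 ^ n := Nat.one_lt_two_pow (by have := h.two; omega)
  have hQR := Subgroup.card_eq_card_quotient_mul_card_subgroup C
  rw [h.card] at hQR
  have hRpos : 0 < Nat.card (Q ⧸ C) := Nat.card_pos
  obtain ⟨hRcard, hRsq⟩ := ih (by
    have h2 := Nat.mul_le_mul_left (Nat.card (Q ⧸ C)) (show 2 ≤ 2 ^ n from hq1)
    omega) h' hna'
  -- squares and commutators lie in the first layer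
  have hsqQ : ∀ x, x * x ∈ c.D := fun x => by
    obtain ⟨d, hd, e⟩ := hRsq (π x)
    have := c.D.mul_mem hd (c.C_le_D ((hker (d⁻¹ * (x * x))).1
      (by rw [map_mul, map_inv, e, map_mul, inv_mul_cancel])))
    rwa [mul_inv_cancel_left] at this
  have hcQ : ∀ x y, ⁅x, y⁆ ∈ c.D := fun x y => by
    have e : ⁅x, y⁆ = (x * y) * (x * y) * ((y⁻¹ * x⁻¹ * y) * (y⁻¹ * x⁻¹ * y)) * (y⁻¹ * y⁻¹) := by
      simp only [commutatorElement_def]; group
    rw [e]; exact c.D.mul_mem (c.D.mul_mem (hsqQ _) (hsqQ _)) (hsqQ _)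
  have hconjE : ∀ e ∈ c.E hC, ∀ y : Q, y * e * y⁻¹ ∈ c.E hC ∧ c.a (y * e * y⁻¹) = c.a e := fun e he y => by
    have e' : y * e * y⁻¹ = e * ⁅e⁻¹, y⁆ := by simp only [commutatorElement_def]; group
    rw [e']
    exact ⟨(c.E hC).mul_mem he (c.D_le_E hC (hcQ _ _)),
      by rw [c.a_mul hC he (c.D_le_E hC (hcQ _ _)), c.a_of_D (hcQ _ _), add_zero]⟩
  have hEab := hab (by rw [hκ]; exact one_ne_zero)
  -- every element lies in the third layer
  let F1 : Subgroup Q :=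
    { carrier := {x | δ α x ∈ c.E hC}
      one_mem' := by show δ α 1 ∈ c.E hC; rw [δ_one]; exact one_mem _
      mul_mem' := fun {x y} (hx : δ α x ∈ c.E hC) (hy : δ α y ∈ c.E hC) => by
        show δ α (x * y) ∈ c.E hC
        rw [δ_mul]
        refine (c.E hC).mul_mem ?_ hy
        simpa using (hconjE _ hx y⁻¹).1
      inv_mem' := fun {x} (hx : δ α x ∈ c.E hC) => by
        show δ α x⁻¹ ∈ c.E hC
        have e : δ α x⁻¹ = x * (δ α x)⁻¹ * x⁻¹ := by simp only [δ, map_inv]; group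
        rw [e]; exact (hconjE _ ((c.E hC).inv_mem hx) x).1 }
  let b : Q → GaloisField 2 n := fun x => c.a (δ α x)
  have hbadd : ∀ x ∈ F1, ∀ y ∈ F1, b (x * y) = b x + b y := fun x hx y hy => by
    simp only [b]
    obtain ⟨h1, h2⟩ := hconjE _ (show δ α x ∈ c.E hC from hx) y⁻¹
    rw [inv_inv] at h1 h2
    rw [δ_mul, c.a_mul hC h1 hy, h2]
  have hbker : ∀ x ∈ F1, b x = 0 ↔ x ∈ c.E hC := fun x hx =>
    ⟨fun e => c.mem_D_of_a hC hx e, fun e => c.a_of_D e⟩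
  have hbρ : ∀ x ∈ F1, b (ρ x) = c.l * b x := fun x hx => by
    simp only [b]; rw [δ_comp h.comm]; exact c.a_ρ hC hx
  have hF1ρ : ∀ x ∈ F1, ρ x ∈ F1 := fun x hx => by
    show δ α (ρ x) ∈ c.E hC
    rw [δ_comp h.comm]; exact c.ρ_E hC _ hx
  obtain ⟨y₀, -, hy₀, hy₀e⟩ := exists_next h.p2 α h.invol le_top
    (fun e => hE (top_le_iff.1 e)) (fun x _ => mem_top _) (c.α_E hC)
  have hb0 : b y₀ ≠ 0 := fun e => hy₀ ((hbker y₀ hy₀e).1 e)
  have hbsurj : ∀ t, ∃ x ∈ F1, b x = t :=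
    orbit_surj c.gen hF1ρ b hbρ ((hbker 1 (one_mem _)).2 (one_mem _)) hy₀e hb0
  have hcardF1 : Nat.card F1 = Nat.card Q := by
    rw [c.card_layer b (show c.E hC ≤ F1 from fun x hx => c.D_le_E hC hx) hbadd hbker hbsurj, c.card_E hC hD, hQR, hRcard]
  have hF1 : ∀ x, x ∈ F1 := fun x => (Subgroup.eq_top_of_card_eq F1 hcardF1) ▸ mem_top x
  -- conjugation on the second layer
  let φ : Q → Q → GaloisField 2 n := fun e y => c.A ⁅y, e⁆
  obtain ⟨κ', hκ'⟩ := exists_pairing (H := c.E hC) (H' := F1) c.gen (c.ρ_E hC) hF1ρ c.a b φ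
    (fun x hx => c.a_ρ hC hx) hbρ (fun x hx y hy => c.a_mul hC hx hy) hbadd (c.a_surj hC hD) hbsurj
    (fun x _ x' _ y _ => c.A_comm_mul_right hC (hcQ y x) (hcQ y x'))
    (fun x _ y _ y' _ => c.A_comm_mul_left hC (hcQ y' x) (hcQ y x))
    (fun x hx y _ e => c.A_of_C (by
      rw [← commutatorElement_inv]; exact C.inv_mem (c.comm_D_mem hC (c.mem_D_of_a hC hx e) y)))
    (fun x hx y hy e => c.A_of_C (c.comm_E_mem hC hD y ((hbker y hy).1 e) x hx))
    (fun x _ y _ => c.A_comm_ρ (hcQ y x))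
  have hidem : ∀ e ∈ c.E hC, ∀ y : Q, ∀ e₁ ∈ c.E hC, c.a e₁ = φ e y → φ e₁ y = φ e y := by
    intro e he y e₁ he₁ ha1
    set d := ⁅y, e⁆ with hd
    have hdD : d ∈ c.D := hcQ y e
    have hg1 : y * e * y⁻¹ = d * e := by rw [hd]; simp only [commutatorElement_def]; group
    have hg2 : y * d * y⁻¹ * (d * e) = e := by
      have hy2 : Commute (y * y) e := hEab _ (c.D_le_E hC (hsqQ y)) _ he
      calc y * d * y⁻¹ * (d * e) = y * d * y⁻¹ * (y * e * y⁻¹) := by rw [hg1]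
        _ = y * (d * e) * y⁻¹ := by group
        _ = (y * y) * e * (y * y)⁻¹ := by rw [← hg1]; group
        _ = e := by rw [hy2.eq, mul_inv_cancel_right]
    have hyd : ⁅y, d⁆ * (d * d) = 1 := by
      rw [← mul_eq_right (b := e)]
      calc ⁅y, d⁆ * (d * d) * e = y * d * y⁻¹ * (d * e) := by simp only [commutatorElement_def]; group
        _ = e := hg2
    have hydC : ⁅y, d⁆ ∈ C := by rw [← commutatorElement_inv]; exact C.inv_mem (c.comm_D_mem hC hdD y)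
    have hz : c.ζ ⁅y, d⁆ = c.A d := by
      rw [eq_inv_of_mul_eq_one_left hyd, c.ζ_inv (c.sq_D_mem hC d hdD), hζsq d hdD]
    have hsq1 := hsqE e₁ he₁
    have hc1 : (e₁ * e₁)⁻¹ * d ∈ C := c.mem_C_of_A (c.D.mul_mem (c.D.inv_mem hsq1.1) hdD) (by
      rw [c.A_mul (c.D.inv_mem hsq1.1) hdD, c.A_inv hsq1.1, hsq1.2, hκ, one_mul, ha1]
      exact CharTwo.add_self_eq_zero _)
    set d1 := ⁅y, e₁⁆ with hd1
    have hd1D : d1 ∈ c.D := hcQ y e₁
    have hsqd : ⁅y, e₁ * e₁⁆ = d1 * d1 := by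
      have e2 : ⁅y, e₁ * e₁⁆ = d1 * (e₁ * d1 * e₁⁻¹) := by
        rw [hd1]; simp only [commutatorElement_def]; group
      rw [e2, hEab e₁ he₁ d1 (c.D_le_E hC hd1D), mul_inv_cancel_right]
    have e3 : ⁅y, d⁆ = ⁅y, (e₁ * e₁) * ((e₁ * e₁)⁻¹ * d)⁆ := by rw [mul_inv_cancel_left]
    have e4 : ⁅y, (e₁ * e₁)⁻¹ * d⁆ = 1 := commutatorElement_eq_one_iff_mul_comm.2 (h.central _ hc1 y)
    show c.A d1 = c.A d
    rw [← hz, e3, c.ζ_comm_mul_right (by rw [hsqd]; exact c.sq_D_mem hC _ hd1D) (by rw [e4]; exact one_mem _),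
      e4, c.ζ_one, add_zero, hsqd, hζsq d1 hd1D]
  have hκ'0 : κ' = 0 := by
    by_contra hne
    obtain ⟨y, hy, hby⟩ := hbsurj 1
    have hval : ∀ e ∈ c.E hC, c.a e ≠ 0 → φ e y = κ' := by
      intro e he hae
      have h1 := hκ' e he y hy
      rw [hby, mul_one] at h1
      obtain ⟨e₁, he₁, ha1⟩ := c.a_surj hC hD (φ e y)
      have h2 := hκ' e₁ he₁ y hy
      rw [hidem e he y e₁ he₁ ha1, ha1, hby, mul_one] at h2
      have h3 : φ e y ≠ 0 := fun e0 => by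
        rw [e0] at h1
        exact mul_ne_zero hne hae (by simpa using h1.symm)
      exact mul_left_cancel₀ h3 (by rw [← sq, h2]; ring)
    have hlin : ∀ t : GaloisField 2 n, t ≠ 0 → κ' = t := fun t ht => by
      obtain ⟨e, he, hae⟩ := c.a_surj hC hD t
      have h1 := hκ' e he y hy
      rw [hval e he (by rw [hae]; exact ht), hby, mul_one, hae, sq] at h1
      exact mul_left_cancel₀ hne h1
    haveI : Fintype (GaloisField 2 n) := Fintype.ofFinite _
    classical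
    have hle2 : Fintype.card (GaloisField 2 n) ≤ Fintype.card Bool := by
      refine Fintype.card_le_of_injective (fun t => decide (t = 0)) fun s t hst => ?_
      simp only [decide_eq_decide] at hst
      by_cases hs : s = 0
      · rw [hs, hst.1 hs]
      · rw [← hlin s hs, ← hlin t fun ht => hs (hst.2 ht)]
    rw [← Nat.card_eq_fintype_card, GaloisField.card 2 n (by have := h.two; omega), Fintype.card_bool] at hle2
    have := Nat.pow_le_pow_right (show 0 < 2 by norm_num) h.two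
    omega
  have hEC : ∀ e ∈ c.E hC, ∀ y, φ e y = 0 := fun e he y => by
    have := hκ' e he y (hF1 y)
    rw [hκ'0, zero_mul, zero_mul] at this
    exact eq_zero_of_pow_eq_zero this
  refine hR fun x y => c.mem_C_of_A (hcQ x y) ?_
  refine alternating_eq_zero c.gen hF1ρ b (fun x y => c.A ⁅x, y⁆) hbρ hbadd hbsurj
    (fun x _ x' _ y _ => c.A_comm_mul_left hC (hcQ x' y) (hcQ x y))
    (fun x _ y _ y' _ => c.A_comm_mul_right hC (hcQ x y) (hcQ x y')) ?_
    (fun x _ => by rw [commutatorElement_self, c.A_one]) (fun x _ y _ => c.A_comm_ρ (hcQ x y))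
    x (hF1 x) y (hF1 y)
  intro x hx y _ e
  show c.A ⁅x, y⁆ = 0
  rw [← c.A_inv (hcQ x y), commutatorElement_inv]
  exact hEC x ((hbker x hx).1 e) y

/-- A non-abelian group has order `q ^ 3` and all its squares are fixed. -/
theorem Hyp.card_eq {Q : Type u} [Group Q] [Finite Q] {α ρ : MulAut Q} {C : Subgroup Q} {n : ℕ}
    (h : Hyp α ρ C n) (hna : ¬ ∀ x y : Q, x * y = y * x) :
    Nat.card Q = 2 ^ n * 2 ^ n * 2 ^ n ∧ ∀ x : Q, x * x ∈ C :=
  card_eq_aux _ le_rfl h hna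

end CfsgLib.InvolutionFixed
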