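import Mathlib
import Cfsg.Agent.Lib.PGroup.InvolutionFixed.Structure
import Cfsg.Agent.Lib.PGroup.InvariantComplement

/-!
The squaring form of a non-abelian group: `α ^ 2 + α * β + ν * β ^ 2`.
-/

set_option autoImplicit false
set_option linter.style.haveILetI false

namespace CfsgLib.InvolutionFixed

open Subgroup
open scoped commutatorElement

universe u

/-- Coordinates with squaring given by a binary quadratic form. -/
structure FormData (Q : Type u) [Group Q] (C : Subgroup Q) (F : Type) [Field F] (ν : F) where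
  π : Q → F × F
  ζ : Q → F
  π_mul : ∀ x y, π (x * y) = π x + π y
  π_surj : Function.Surjective π
  π_eq_zero : ∀ x, π x = 0 ↔ x ∈ C
  ζ_mul : ∀ x ∈ C, ∀ y ∈ C, ζ (x * y) = ζ x + ζ y
  ζ_eq_zero : ∀ x ∈ C, ζ x = 0 → x = 1
  ζ_surj : ∀ t, ∃ x ∈ C, ζ x = t
  exp : ∀ x ∈ C, x * x = 1
  central : ∀ x ∈ C, ∀ g, g * x = x * g
  sq_mem : ∀ x, x * x ∈ C
  ζ_sq : ∀ x, ζ (x * x) = (π x).1 ^ 2 + (π x).1 * (π x).2 + ν * (π x).2 ^ 2

theorem comm_calc {A : Type*} [CommGroup A] (a b u v w : A) :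
    a * u⁻¹ * (b * v⁻¹) * (u * v * w) = a * b * w := by
  rw [mul_mul_mul_comm a u⁻¹, ← mul_inv, ← mul_assoc, inv_mul_cancel_right]

set_option maxHeartbeats 1000000 in
theorem Hyp.exists_form {Q : Type u} [Group Q] [Finite Q] {α ρ : MulAut Q} {C : Subgroup Q} {n : ℕ}
    (h : Hyp α ρ C n) (hna : ¬ ∀ x y : Q, x * y = y * x) (hρ : ρ ^ (2 ^ n - 1) = 1) :
    ∃ ν : GaloisField 2 n, Nonempty (FormData Q C (GaloisField 2 n) ν) := by
  classical
  haveI : Fact (Nat.Prime 2) := ⟨Nat.prime_two⟩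
  obtain ⟨c⟩ := h.exists_coord
  have hC : C ≠ ⊤ := fun e => hna fun x y => h.central y (e ▸ mem_top y) x
  obtain ⟨hD, hζsq⟩ := c.layer_one hC hna
  obtain ⟨hcard, hsq⟩ := h.card_eq hna
  have hE : ∀ x, x ∈ c.E hC := fun x =>
    (Subgroup.eq_top_of_card_eq (c.E hC) (by rw [c.card_E hC hD, hcard])) ▸ mem_top x
  have haadd : ∀ x y, c.a (x * y) = c.a x + c.a y := fun x y => c.a_mul hC (hE x) (hE y)
  have hcC : ∀ x y, ⁅x, y⁆ ∈ C := fun x y => c.comm_E_mem hC hD x (hE x) y (hE y)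
  haveI := c.C_normal
  set π := QuotientGroup.mk' C with hπ
  have hker : ∀ x, π x = 1 ↔ x ∈ C := fun x => QuotientGroup.eq_one_iff x
  have hsurj : Function.Surjective π := QuotientGroup.mk'_surjective C
  letI : CommGroup (Q ⧸ C) := { (inferInstance : Group (Q ⧸ C)) with
    mul_comm := fun x y => by
      obtain ⟨x, rfl⟩ := hsurj x
      obtain ⟨y, rfl⟩ := hsurj y
      rw [← commutatorElement_eq_one_iff_mul_comm, ← map_commutatorElement]
      exact (hker _).2 (hcC x y) }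
  have hexpR : ∀ w : Q ⧸ C, w * w = 1 := fun w => by
    obtain ⟨x, rfl⟩ := hsurj w
    rw [← map_mul]; exact (hker _).2 (hsq x)
  -- an invariant complement of the first layer
  let Dm := c.D.map π
  obtain ⟨K₀, hK₁, hK₂⟩ := CfsgLib.PGroup.exists_complement_of_free (p := 2) (e := 0)
    (fun w : Q ⧸ C => by rw [zero_add, pow_one, sq]; exact hexpR w) Dm
    (fun w _ hw => by rw [pow_zero, pow_one] at hw; exact ⟨1, Dm.one_mem, by rw [hw, one_pow]⟩)
  have hmapC : C.map ρ.toMonoidHom = C := by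
    refine Subgroup.eq_of_le_of_card_ge (Subgroup.map_le_iff_le_comap.2 fun x hx => h.ρ_mem x hx) ?_
    rw [Subgroup.card_map_of_injective ρ.injective]
  let ρ' : MulAut (Q ⧸ C) := QuotientGroup.congr C C ρ hmapC
  have hρ' : ∀ x, ρ' (π x) = π (ρ x) := fun x => rfl
  have hρk : ∀ (k : ℕ) x, (ρ' ^ k) (π x) = π ((ρ ^ k) x) := fun k => by
    induction k with
    | zero => intro x; rfl
    | succ k ih => intro x; rw [pow_succ', pow_succ', MulAut.mul_apply, ih, hρ']; rfl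
  have hρ'1 : ρ' ^ (2 ^ n - 1) = 1 := MulEquiv.ext fun w => by
    obtain ⟨x, rfl⟩ := hsurj w
    rw [hρk, hρ]; rfl
  have hDρ : ∀ k : ℕ, ∀ w ∈ Dm, (ρ' ^ k) w ∈ Dm := by
    rintro k _ ⟨d, hd, rfl⟩
    rw [hρk]; exact Subgroup.mem_map_of_mem π (iter_mem c.ρ_D k hd)
  have hodd : Odd (orderOf ρ') := by
    refine Odd.of_dvd_nat ?_ (orderOf_dvd_of_pow_eq_one hρ'1)
    obtain ⟨m, hm⟩ : 2 ∣ 2 ^ n := dvd_pow_self 2 (by have := h.two; omega)
    exact ⟨m - 1, by have := Nat.two_pow_pos n; omega⟩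
  haveI : Finite (MulAut (Q ⧸ C)) := Finite.of_injective _ DFunLike.coe_injective
  obtain ⟨K, hKinv, hKD, hKtop⟩ := CfsgLib.PGroup.exists_invariant_complement (A := Q ⧸ C)
    (Subgroup.zpowers ρ').subtype
    (by
      refine Nat.Coprime.coprime_dvd_right (Monoid.exponent_dvd_of_forall_pow_eq_one fun w => by rw [sq]; exact hexpR w) ?_
      rw [Nat.card_zpowers]
      exact hodd.coprime_two_right)
    Dm (fun x w hw => by
      obtain ⟨k, hk⟩ := (isOfFinOrder_of_finite ρ').mem_powers_iff_mem_zpowers.2 x.2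
      show (x : MulAut (Q ⧸ C)) w ∈ Dm
      rw [← show ρ' ^ k = (x : MulAut (Q ⧸ C)) from hk]; exact hDρ k w hw) K₀ hK₁ hK₂
  let Y : Subgroup Q := K.comap π
  have hYρ : ∀ y ∈ Y, ρ y ∈ Y := fun y hy => hKinv ⟨ρ', Subgroup.mem_zpowers _⟩ _ hy
  have hCY : C ≤ Y := fun x hx => by
    show π x ∈ K
    rw [(hker x).2 hx]; exact K.one_mem
  have hYD : ∀ y ∈ Y, y ∈ c.D → y ∈ C := fun y hy hyD => by
    have h1 : π y ∈ Dm ⊓ K := ⟨Subgroup.mem_map_of_mem π hyD, hy⟩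
    rw [hKD, mem_bot, hker] at h1
    exact h1
  have hdec : ∀ x, ∃ y ∈ Y, x * y⁻¹ ∈ c.D := fun x => by
    obtain ⟨w, ⟨d, hd, rfl⟩, k, hk, e⟩ := Subgroup.mem_sup.1 (hKtop ▸ mem_top (π x) : π x ∈ Dm ⊔ K)
    obtain ⟨y, rfl⟩ := hsurj k
    refine ⟨y, hk, ?_⟩
    have h1 : d⁻¹ * (x * y⁻¹) ∈ C := (hker _).1 (by rw [map_mul, map_mul, ← e, map_inv, map_inv]; group)
    have := c.D.mul_mem hd (c.C_le_D h1)
    rwa [mul_inv_cancel_left] at this
  have hYsurj : ∀ t, ∃ y ∈ Y, c.a y = t := fun t => by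
    obtain ⟨x, -, hx⟩ := c.a_surj hC hD t
    obtain ⟨y, hy, hyd⟩ := hdec x
    refine ⟨y, hy, ?_⟩
    have h1 := haadd (x * y⁻¹) y
    rw [inv_mul_cancel_right, c.a_of_D hyd, zero_add] at h1
    rw [← h1, hx]
  choose sY hsY hsYa using hYsurj
  have hrem : ∀ x, x * (sY (c.a x))⁻¹ ∈ c.D := fun x => c.mem_D_of_a hC (hE _) (by
    rw [haadd, c.a_inv hC (hE _), hsYa, CharTwo.add_self_eq_zero])
  let p : Q → GaloisField 2 n := fun x => c.A (x * (sY (c.a x))⁻¹)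
  have hsYC : ∀ u v, sY u * sY v * (sY (u + v))⁻¹ ∈ C := fun u v =>
    hYD _ (Y.mul_mem (Y.mul_mem (hsY u) (hsY v)) (Y.inv_mem (hsY _))) (c.mem_D_of_a hC (hE _) (by
      rw [haadd, haadd, c.a_inv hC (hE _), hsYa, hsYa, hsYa, CharTwo.add_self_eq_zero]))
  have hpadd : ∀ x y, p (x * y) = p x + p y := fun x y => by
    simp only [p]
    rw [← c.A_mul (hrem x) (hrem y), haadd]
    set d := x * (sY (c.a x))⁻¹ * (y * (sY (c.a y))⁻¹) with hd
    have h1 : d⁻¹ * (x * y * (sY (c.a x + c.a y))⁻¹) ∈ C := (hker _).1 (by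
      have h2 := (hker _).2 (hsYC (c.a x) (c.a y))
      rw [map_mul π (d⁻¹), map_inv, inv_mul_eq_one, ← mul_one (π d), ← h2]
      simp only [hd, map_mul, map_inv]
      exact comm_calc _ _ _ _ _)
    have h3 := c.A_mul_C (c.D.mul_mem (hrem x) (hrem y)) h1
    rw [mul_inv_cancel_left] at h3
    exact h3
  -- squares on the complement
  have hsqwd : ∀ x ∈ Y, ∀ y ∈ Y, c.a x = c.a y → c.ζ (x * x) = c.ζ (y * y) := fun x hx y hy e => by
    have hu : y⁻¹ * x ∈ C := hYD _ (Y.mul_mem (Y.inv_mem hy) hx) (c.mem_D_of_a hC (hE _) (by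
      rw [haadd, c.a_inv hC (hE _), e, CharTwo.add_self_eq_zero]))
    congr 1
    calc x * x = (y * (y⁻¹ * x)) * (y * (y⁻¹ * x)) := by group
      _ = y * ((y⁻¹ * x) * y) * (y⁻¹ * x) := by group
      _ = y * y := by rw [← h.central _ hu y, mul_assoc, mul_assoc, h.exp _ hu, mul_one]
  obtain ⟨μ, hμ⟩ := exists_factor c.gen hYρ c.a (fun x => c.ζ (x * x)) (fun x _ => c.a_ρ hC (hE x))
    (fun x _ => by rw [← map_mul, c.ζ_ρ _ (hsq x)]) (fun t => ⟨sY t, hsY t, hsYa t⟩) hsqwd c.a_one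
    (by rw [mul_one, c.ζ_one])
  -- the pairing of the two layers
  obtain ⟨κ, hκ⟩ := exists_pairing c.gen c.ρ_D hYρ c.A c.a (fun d y => c.ζ ⁅d, y⁆)
    (fun x hx => c.A_ρ hx) (fun x _ => c.a_ρ hC (hE x)) (fun x hx y hy => c.A_mul hx hy)
    (fun x _ y _ => haadd x y) (c.A_surj hC) (fun t => ⟨sY t, hsY t, hsYa t⟩)
    (fun x _ x' _ y _ => c.ζ_comm_mul_left (hcC x' y) (hcC x y))
    (fun x _ y _ y' _ => c.ζ_comm_mul_right (hcC x y) (hcC x y'))
    (fun x hx y _ e => by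
      rw [commutatorElement_eq_one_iff_mul_comm.2 (h.central x (c.mem_C_of_A hx e) y).symm, c.ζ_one])
    (fun x _ y hy e => by
      rw [commutatorElement_eq_one_iff_mul_comm.2 (h.central y (hYD y hy (c.mem_D_of_a hC (hE y) e)) x), c.ζ_one])
    (fun x _ y _ => c.ζ_comm_ρ (hcC x y))
  have hκ0 : κ ≠ 0 := by
    intro hzero
    have h1 : ∀ d ∈ c.D, ∀ y ∈ Y, c.ζ ⁅d, y⁆ = 0 := fun d hd y hy =>
      eq_zero_of_pow_eq_zero (n := 2) (by rw [hκ d hd y hy, hzero, zero_mul, zero_mul])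
    have h2 : ∀ y ∈ Y, ∀ z ∈ Y, c.ζ ⁅y, z⁆ = 0 :=
      alternating_eq_zero c.gen hYρ c.a (fun x y => c.ζ ⁅x, y⁆) (fun x _ => c.a_ρ hC (hE x))
        (fun x _ y _ => haadd x y) (fun t => ⟨sY t, hsY t, hsYa t⟩)
        (fun x _ x' _ y _ => c.ζ_comm_mul_left (hcC x' y) (hcC x y))
        (fun x _ y _ y' _ => c.ζ_comm_mul_right (hcC x y) (hcC x y'))
        (fun x hx y _ e => by
          rw [commutatorElement_eq_one_iff_mul_comm.2 (h.central x (hYD x hx (c.mem_D_of_a hC (hE x) e)) y).symm, c.ζ_one])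
        (fun x _ => by rw [commutatorElement_self, c.ζ_one]) (fun x _ y _ => c.ζ_comm_ρ (hcC x y))
    have hinv : ∀ x y, c.ζ ⁅x, y⁆ = c.ζ ⁅y, x⁆ := fun x y => by
      rw [← commutatorElement_inv, c.ζ_inv (hcC y x)]
    have h3 : ∀ x y : Q, c.ζ ⁅x, y⁆ = 0 := fun x y => by
      have key : ∀ u : Q, (∀ d ∈ c.D, c.ζ ⁅u, d⁆ = 0) → (∀ z ∈ Y, c.ζ ⁅u, z⁆ = 0) → ∀ z, c.ζ ⁅u, z⁆ = 0 := by
        intro u hu1 hu2 z
        rw [← inv_mul_cancel_right z (sY (c.a z)), c.ζ_comm_mul_right (hcC _ _) (hcC _ _), hu1 _ (hrem z),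
          hu2 _ (hsY _), add_zero]
      rw [← inv_mul_cancel_right x (sY (c.a x)), c.ζ_comm_mul_left (hcC _ _) (hcC _ _),
        key _ (fun d hd => by
          rw [commutatorElement_eq_one_iff_mul_comm.2 (c.comm_D hC _ (hrem x) d hd), c.ζ_one])
          (fun z hz => h1 _ (hrem x) z hz) y,
        key _ (fun d hd => by rw [hinv]; exact h1 d hd _ (hsY _)) (fun z hz => h2 _ (hsY _) z hz) y, add_zero]
    exact hna fun x y => c.comm_of_ζ (hcC x y) (h3 x y)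
  obtain ⟨r, hr⟩ := exists_sqrt_fun (F := GaloisField 2 n)
  have hradd : ∀ u v, r (u + v) = r u + r v := fun u v =>
    CharTwo.sq_injective (show r (u + v) ^ 2 = (r u + r v) ^ 2 by rw [CharTwo.add_sq, hr, hr, hr])
  set k := r κ with hk
  have hk0 : k ≠ 0 := fun e => hκ0 (by rw [← hr κ, ← hk, e]; ring)
  refine ⟨μ / k ^ 2, ⟨{
    π := fun x => (r (p x), k * r (c.a x))
    ζ := c.ζ
    π_mul := fun x y => by simp only [hpadd, haadd, hradd, Prod.mk_add_mk, mul_add]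
    π_surj := fun t => ?_
    π_eq_zero := fun x => ?_
    ζ_mul := c.ζ_mul
    ζ_eq_zero := c.ζ_eq_zero
    ζ_surj := c.ζ_surj
    exp := h.exp
    central := h.central
    sq_mem := hsq
    ζ_sq := fun x => ?_ }⟩⟩
  · obtain ⟨d, hd, hdA⟩ := c.A_surj hC (t.1 ^ 2)
    refine ⟨d * sY ((t.2 / k) ^ 2), ?_⟩
    have ha : c.a (d * sY ((t.2 / k) ^ 2)) = (t.2 / k) ^ 2 := by rw [haadd, c.a_of_D hd, hsYa, zero_add]
    have hp : p (d * sY ((t.2 / k) ^ 2)) = t.1 ^ 2 := by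
      simp only [p, ha, mul_inv_cancel_right]; exact hdA
    have hrsq : ∀ u : GaloisField 2 n, r (u ^ 2) = u := fun u => CharTwo.sq_injective (hr _)
    refine Prod.ext ?_ ?_
    · show r (p _) = t.1
      rw [hp, hrsq]
    · show k * r (c.a _) = t.2
      rw [ha, hrsq, mul_div_cancel₀ _ hk0]
  · constructor
    · intro e
      simp only [Prod.mk_eq_zero, mul_eq_zero, hk0, false_or] at e
      have h1 : c.a x = 0 := by rw [← hr (c.a x), e.2]; ring
      have h2 : p x = 0 := by rw [← hr (p x), e.1]; ring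
      have h3 := c.mem_C_of_A (hrem x) h2
      have h4 : sY (c.a x) ∈ C := hYD _ (hsY _) (c.mem_D_of_a hC (hE _) (by rw [hsYa, h1]))
      have := C.mul_mem h3 h4
      rwa [inv_mul_cancel_right] at this
    · intro hx
      have h1 : c.a x = 0 := c.a_of_D (c.C_le_D hx)
      have h2 : p x = 0 := by
        have h4 : sY (c.a x) ∈ C := hYD _ (hsY _) (c.mem_D_of_a hC (hE _) (by rw [hsYa, h1]))
        exact c.A_of_C (C.mul_mem hx (C.inv_mem h4))
      have hr0 : r 0 = 0 := by simpa using hr 0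
      simp only [h1, h2, hr0, mul_zero, Prod.mk_zero_zero]
  · set d := x * (sY (c.a x))⁻¹ with hd
    set y := sY (c.a x) with hy
    have hdD : d ∈ c.D := hrem x
    have hxdy : x = d * y := by rw [hd, inv_mul_cancel_right]
    have h1 : x * x = d * d * (y * y) * ⁅d, y⁆ := by
      have hcen : ∀ g : Q, g * ⁅y, d⁆ = ⁅y, d⁆ * g := h.central _ (hcC y d)
      have hinv2 : ⁅d, y⁆ = ⁅y, d⁆ := by
        rw [← commutatorElement_inv]
        exact inv_eq_of_mul_eq_one_right (h.exp _ (hcC y d))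
      calc x * x = d * (⁅y, d⁆ * (d * y)) * y := by rw [hxdy]; simp only [commutatorElement_def]; group
        _ = ⁅y, d⁆ * (d * d * (y * y)) := by rw [← mul_assoc d ⁅y, d⁆, hcen d]; group
        _ = d * d * (y * y) * ⁅d, y⁆ := by rw [hinv2, hcen]
    have h2 : c.ζ (x * x) = c.A d + μ * c.a x + c.ζ ⁅d, y⁆ := by
      rw [h1, c.ζ_mul _ (C.mul_mem (hsq d) (hsq y)) _ (hcC d y), c.ζ_mul _ (hsq d) _ (hsq y), hζsq d hdD,
        hμ y (hsY _), hy, hsYa]
    have h3 : c.ζ ⁅d, y⁆ = k * r (p x) * r (c.a x) := by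
      refine CharTwo.sq_injective ?_
      show _ ^ 2 = _ ^ 2
      rw [hκ d hdD y (hsY _), mul_pow, mul_pow, hk]
      simp only [hr]
      rw [hy, hsYa]
    have h4 : c.A d = r (p x) ^ 2 := (hr (p x)).symm
    show c.ζ (x * x) = r (p x) ^ 2 + r (p x) * (k * r (c.a x)) + μ / k ^ 2 * (k * r (c.a x)) ^ 2
    rw [h2, h3, h4, mul_pow, hr (c.a x)]
    field_simp
    ring

end CfsgLib.InvolutionFixed
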